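import Mathlib
import Cfsg.Prelude.Def_ClassificationK
import Cfsg.Prelude.Def_SporCoxeter
import Cfsg.Prelude.Def_Spor_Fi22
import Cfsg.Prelude.Def_Spor_Fi23
import Cfsg.Prelude.Def_Spor_Fi24
import Cfsg.Prelude.Def_Spor_B
import Cfsg.Agent.Bimonster.Graph
import Cfsg.Agent.GammaTwo.Rows
import Cfsg.Agent.MonsterP.H1Abs_mg_m3
import Cfsg.Prelude.Def_Sporadic
import Cfsg.Agent.CoOneType.Gen
import Cfsg.Agent.S1691
import Cfsg.Agent.S1696
import Cfsg.Agent.S1697
import Cfsg.Agent.S1698
import Cfsg.Agent.S1704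
import Cfsg.Agent.H850.MonSub
import Cfsg.Agent.CoOneType.CoW
import Cfsg.Agent.FastGrp
import Cfsg.Agent.Prune
set_option linter.all false
prune_inst 0x7f00000000000000000000000000000000000000000000000000000000000000000000000000000000000000000000000000000000000000000000000000000000000000000000000000000000000000003fffffffffffffffffffffffffffbeffbdffffffff
open scoped Cfsg.Agent.FastGrp

-- merged: Cfsg.Agent.GammaTwo.SporBase
section

/-!
# `Γ_{P,2}(G) = G` from a configuration of commuting subgroups of order `p` (helper79, for S1809)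

`Full p G`: for every Sylow `p`-subgroup `P` of `G`, the subgroup `Γ_{P,2}(G)` is `G`.
-/

set_option autoImplicit false

namespace Cfsg.Agent.GammaTwo.Spor

open Cfsg

/-- `Γ_{P,2}(G) = G` for every Sylow `p`-subgroup `P`. -/
def Full (p : ℕ) (G : Type*) [Group G] : Prop := ∀ P : Sylow p G, kGeneratedCore p 2 (P : Subgroup G) = ⊤

theorem mem_core {G : Type*} [Group G] {p : ℕ} {P Q : Subgroup G} (hQ : Q ≤ P) (hQ2 : ¬ PRankLE p 1 ↥Q) {x : G}
    (hx : x ∈ Subgroup.normalizer (Q : Set G)) : x ∈ kGeneratedCore p 2 P :=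
  Subgroup.mem_iSup_of_mem (⟨Q, hQ, hQ2⟩ : {Q : Subgroup G // Q ≤ P ∧ ¬ PRankLE p (2 - 1) Q}) hx

theorem core_le {G : Type*} [Group G] {p : ℕ} {P M : Subgroup G}
    (h : ∀ Q : Subgroup G, Q ≤ P → ¬ PRankLE p 1 ↥Q → Subgroup.normalizer (Q : Set G) ≤ M) :
    kGeneratedCore p 2 P ≤ M :=
  iSup_le fun ⟨Q, hQ, hQ2⟩ => h Q hQ hQ2

theorem rank_map {G H : Type*} [Group G] [Group H] {p k : ℕ} (f : G →* H) (hf : Function.Injective f)
    {Q : Subgroup G} (h : ¬ PRankLE p k ↥Q) : ¬ PRankLE p k ↥(Q.map f) := by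
  intro h4
  apply h
  intro A hA hAp
  let e : ↥Q ≃* ↥(Q.map f) := Q.equivMapOfInjective f hf
  have h5 := h4 (A.map e.toMonoidHom) ?_ ?_
  · rwa [← Nat.card_congr (A.equivMapOfInjective e.toMonoidHom e.injective).toEquiv] at h5
  · refine ⟨⟨?_⟩⟩
    rintro ⟨_, a, ha, rfl⟩ ⟨_, b, hb, rfl⟩
    apply Subtype.ext
    have := congrArg Subtype.val (hA.is_comm.comm ⟨a, ha⟩ ⟨b, hb⟩)
    show e.toMonoidHom a * e.toMonoidHom b = e.toMonoidHom b * e.toMonoidHom a
    rw [← map_mul, ← map_mul]
    exact congrArg _ this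
  · rintro _ ⟨a, ha, rfl⟩
    rw [← map_pow, hAp a ha, map_one]

theorem normalizer_map {G H : Type*} [Group G] [Group H] (e : G ≃* H) (Q : Subgroup G) {x : G}
    (hx : x ∈ Subgroup.normalizer (Q : Set G)) :
    e x ∈ Subgroup.normalizer ((Q.map e.toMonoidHom : Subgroup H) : Set H) := by
  rw [Subgroup.mem_normalizer_iff] at hx ⊢
  intro y
  constructor
  · rintro ⟨r, hr, rfl⟩
    refine ⟨x * r * x⁻¹, (hx r).1 hr, ?_⟩
    show e (x * r * x⁻¹) = e x * e r * (e x)⁻¹
    rw [map_mul, map_mul, map_inv]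
  · rintro ⟨r, hr, hr2⟩
    refine ⟨x⁻¹ * r * x, ?_, ?_⟩
    · rw [SetLike.mem_coe, hx]
      have : x * (x⁻¹ * r * x) * x⁻¹ = r := by group
      rwa [this]
    · show e (x⁻¹ * r * x) = y
      have h5 : e r = e x * y * (e x)⁻¹ := hr2
      rw [map_mul, map_mul, map_inv, h5]
      group

theorem core_map {G H : Type*} [Group G] [Group H] {p : ℕ} (e : G ≃* H) (P : Subgroup G) :
    (kGeneratedCore p 2 P).map e.toMonoidHom ≤ kGeneratedCore p 2 (P.map e.toMonoidHom) := by
  rw [Subgroup.map_le_iff_le_comap]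
  refine core_le fun Q hQ hQ2 x hx => ?_
  exact mem_core (Subgroup.map_mono hQ) (rank_map _ e.injective hQ2) (normalizer_map e Q hx)

theorem core_top_map {G H : Type*} [Group G] [Group H] {p : ℕ} (e : G ≃* H) {P : Subgroup G}
    (h : kGeneratedCore p 2 P = ⊤) : kGeneratedCore p 2 (P.map e.toMonoidHom) = ⊤ := by
  rw [eq_top_iff]
  intro x _
  have h1 := core_map (p := p) e P
  rw [h] at h1
  exact h1 ⟨e.symm x, Subgroup.mem_top _, e.apply_symm_apply x⟩

/-- One Sylow subgroup is enough. -/
theorem full_of_one {p : ℕ} [Fact p.Prime] {G : Type*} [Group G] [Finite G] {P' : Sylow p G}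
    (h : kGeneratedCore p 2 (P' : Subgroup G) = ⊤) : Full p G := by
  intro P
  obtain ⟨g, hg⟩ := MulAction.exists_smul_eq G P' P
  have h1 := core_top_map (p := p) (MulAut.conj g) h
  rw [← hg, Sylow.coe_subgroup_smul]
  exact h1

theorem Full.congr {p : ℕ} [Fact p.Prime] {G H : Type*} [Group G] [Group H] [Finite H] (e : G ≃* H)
    (h : Full p G) : Full p H := by
  have : Finite G := Finite.of_equiv H e.symm.toEquiv
  obtain ⟨P⟩ : Nonempty (Sylow p G) := inferInstance
  have h1 := core_top_map (p := p) e (h P)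
  have h2 : IsPGroup p ↥((P : Subgroup G).map e.toMonoidHom) := P.2.map _
  obtain ⟨P', hP'⟩ := h2.exists_le_sylow
  refine full_of_one (P' := P') ?_
  rw [eq_top_iff, ← h1]
  exact core_le fun Q hQ hQ2 x hx => mem_core (hQ.trans hP') hQ2 hx

/-- A `p`-subgroup `A` and a generating set `S` such that every element of `S` normalizes a subgroup of `A` of
`p`-rank at least 2. -/
theorem full_of_witness {p : ℕ} [Fact p.Prime] {G : Type*} [Group G] [Finite G] {A : Subgroup G} (hA : IsPGroup p A)
    {S : Set G} (hS : Subgroup.closure S = ⊤)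
    (h : ∀ s ∈ S, ∃ B : Subgroup G, B ≤ A ∧ ¬ PRankLE p 1 ↥B ∧ s ∈ Subgroup.normalizer (B : Set G)) : Full p G := by
  obtain ⟨P', hP'⟩ := hA.exists_le_sylow
  refine full_of_one (P' := P') ?_
  rw [eq_top_iff, ← hS, Subgroup.closure_le]
  intro s hs
  obtain ⟨B, hB, hB2, hsB⟩ := h s hs
  exact mem_core (hB.trans hP') hB2 hsB

/-- Two commuting elements of order `p` generating different subgroups. -/
theorem rank_two {p : ℕ} [hp : Fact p.Prime] {G : Type*} [Group G] {B : Subgroup G} [Finite B] {x y : G} (hx : x ∈ B) (hy : y ∈ B)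
    (hxp : x ^ p = 1) (hyp : y ^ p = 1) (hx1 : x ≠ 1) (hxy : x * y = y * x) (hn : y ∉ Subgroup.zpowers x) :
    ¬ PRankLE p 1 ↥B := by
  intro h
  let x' : ↥B := ⟨x, hx⟩
  let y' : ↥B := ⟨y, hy⟩
  have hc : ∀ a ∈ ({x', y'} : Set ↥B), ∀ b ∈ ({x', y'} : Set ↥B), a * b = b * a := by
    rintro a (rfl | rfl) b (rfl | rfl)
    · rfl
    · exact Subtype.ext hxy
    · exact Subtype.ext hxy.symm
    · rfl
  have hcomm : IsMulCommutative ↥(Subgroup.closure ({x', y'} : Set ↥B)) := by
    refine ⟨⟨?_⟩⟩
    have := Subgroup.isMulCommutative_closure hc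
    exact this.is_comm.comm
  have h1 := h (Subgroup.closure {x', y'}) hcomm ?_
  · have hlt : Subgroup.zpowers x' < Subgroup.closure {x', y'} := by
      refine lt_of_le_of_ne ?_ ?_
      · rw [Subgroup.zpowers_le]
        exact Subgroup.subset_closure (Set.mem_insert _ _)
      · intro he
        have h2 : y' ∈ Subgroup.zpowers x' := by
          rw [he]; exact Subgroup.subset_closure (Set.mem_insert_of_mem _ rfl)
        obtain ⟨n, hn'⟩ := h2
        exact hn ⟨n, congrArg Subtype.val hn'⟩
    have h2 : Nat.card ↥(Subgroup.zpowers x') = p := by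
      rw [Nat.card_zpowers]
      refine orderOf_eq_prime (Subtype.ext hxp) fun h0 => hx1 (congrArg Subtype.val h0)
    have h3 : Nat.card ↥(Subgroup.zpowers x') < Nat.card ↥(Subgroup.closure {x', y'}) :=
      Set.Finite.card_lt_card (Set.toFinite _) hlt
    rw [h2] at h3
    rw [pow_one] at h1
    omega
  · intro a ha
    induction ha using Subgroup.closure_induction with
    | mem z hz =>
      rcases hz with rfl | rfl
      · exact Subtype.ext hxp
      · exact Subtype.ext hyp
    | one => exact one_pow p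
    | mul u v hu hv h1 h2 =>
      have h3 : Commute u v := congrArg Subtype.val (hcomm.is_comm.comm ⟨u, hu⟩ ⟨v, hv⟩)
      rw [h3.mul_pow, h1, h2, one_mul]
    | inv u _ h1 => rw [inv_pow, h1, inv_one]

/-- An element commuting with, or inverting, each of the generators normalizes the closure. -/
theorem mem_normalizer_closure {G : Type*} [Group G] {S : Set G} {g : G}
    (h : ∀ s ∈ S, g * s * g⁻¹ ∈ Subgroup.closure S) (h' : ∀ s ∈ S, g⁻¹ * s * g ∈ Subgroup.closure S) :
    g ∈ Subgroup.normalizer ((Subgroup.closure S : Subgroup G) : Set G) := by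
  have h1 : ∀ k : G, (∀ s ∈ S, k * s * k⁻¹ ∈ Subgroup.closure S) → ∀ x ∈ Subgroup.closure S,
      k * x * k⁻¹ ∈ Subgroup.closure S := by
    intro k hk x hx
    induction hx using Subgroup.closure_induction with
    | mem z hz => exact hk z hz
    | one => simp
    | mul u v _ _ h1 h2 =>
      have : k * (u * v) * k⁻¹ = (k * u * k⁻¹) * (k * v * k⁻¹) := by group
      rw [this]; exact mul_mem h1 h2
    | inv u _ h1 =>
      have : k * u⁻¹ * k⁻¹ = (k * u * k⁻¹)⁻¹ := by group
      rw [this]; exact inv_mem h1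
  rw [Subgroup.mem_normalizer_iff]
  intro x
  refine ⟨h1 g h x, fun hx => ?_⟩
  have h2 := h1 g⁻¹ (by simpa using h') _ hx
  have h3 : g⁻¹ * (g * x * g⁻¹) * g⁻¹⁻¹ = x := by group
  rwa [h3] at h2

/-- The configuration: three pairs of involutions, each generating a symmetric group of degree 3, commuting with
one another. -/
structure Three {G : Type*} [Group G] (u v : Fin 3 → G) : Prop where
  su : ∀ i, u i * u i = 1
  sv : ∀ i, v i * v i = 1
  br : ∀ i, u i * v i * u i = v i * u i * v i
  ne : ∀ i, u i ≠ v i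
  uu : ∀ i j, i ≠ j → u i * u j = u j * u i
  uv : ∀ i j, i ≠ j → u i * v j = v j * u i
  vv : ∀ i j, i ≠ j → v i * v j = v j * v i

variable {G : Type*} [Group G] {u v : Fin 3 → G}

theorem Three.cube (h : Three u v) (i : Fin 3) : (u i * v i) ^ 3 = 1 := by
  have h1 := h.br i
  have h2 := h.su i
  have h3 := h.sv i
  calc (u i * v i) ^ 3 = (u i * v i * u i) * (v i * u i * v i) := by
        rw [pow_succ, pow_succ, pow_one]; simp only [mul_assoc]
    _ = (v i * u i * v i) * (v i * u i * v i) := by rw [h1]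
    _ = v i * (u i * (v i * v i) * u i) * v i := by group
    _ = 1 := by rw [h3, mul_one, h2, mul_one, h3]

theorem Three.ne_one (h : Three u v) (i : Fin 3) : u i * v i ≠ 1 := by
  intro h1
  apply h.ne i
  have h3 := h.sv i
  calc u i = u i * (v i * v i) := by rw [h3, mul_one]
    _ = (u i * v i) * v i := by group
    _ = v i := by rw [h1, one_mul]

theorem Three.inv_eq (h : Three u v) (i : Fin 3) : (u i * v i)⁻¹ = v i * u i := by
  have h2 := h.su i
  have h3 := h.sv i
  rw [mul_inv_rev, inv_eq_of_mul_eq_one_left h2, inv_eq_of_mul_eq_one_left h3]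

theorem Three.comm (h : Three u v) {i j : Fin 3} (hij : i ≠ j) : (u i * v i) * (u j * v j) = (u j * v j) * (u i * v i) := by
  have h1 := h.uu i j hij
  have h2 := h.uv i j hij
  have h3 := h.uv j i hij.symm
  have h4 := h.vv i j hij
  calc (u i * v i) * (u j * v j) = u i * (v i * u j) * v j := by group
    _ = u i * (u j * v i) * v j := by rw [h3]
    _ = (u i * u j) * (v i * v j) := by group
    _ = (u j * u i) * (v j * v i) := by rw [h1, h4]
    _ = u j * (u i * v j) * v i := by group
    _ = u j * (v j * u i) * v i := by rw [h2]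
    _ = _ := by group

theorem Three.notMem (h : Three u v) {i j : Fin 3} (hij : i ≠ j) : u j * v j ∉ Subgroup.zpowers (u i * v i) := by
  intro h1
  -- `u j` centralizes `u i * v i`, hence `u j * v j`
  have hc : ∀ z ∈ Subgroup.zpowers (u i * v i), u j * z = z * u j := by
    have h2 : Commute (u j) (u i * v i) := by
      show u j * (u i * v i) = u i * v i * u j
      rw [← mul_assoc, ← h.uu i j hij, mul_assoc, h.uv j i hij.symm, mul_assoc]
    rintro _ ⟨n, rfl⟩
    exact (h2.zpow_right n)
  have h3 := hc _ h1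
  have h4 := h.su j
  have h5 := h.sv j
  have h6 : v j = u j * v j * u j := by
    rw [← h3, ← mul_assoc, h4, one_mul]
  apply h.ne j
  have h7 := h.br j
  rw [← h6] at h7
  -- `v j = v j * u j * v j`
  have h8 : u j * v j = 1 := by
    have h9 : v j * (u j * v j) = v j * 1 := by rw [mul_one, ← mul_assoc]; exact h7.symm
    exact mul_left_cancel h9
  calc u j = u j * (v j * v j) := by rw [h5, mul_one]
    _ = (u j * v j) * v j := by group
    _ = v j := by rw [h8, one_mul]

/-- the order-3 element of the pair `i` -/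
def el (u v : Fin 3 → G) (i : Fin 3) : G := u i * v i

/-- the subgroup generated by the elements of order 3 of the pairs `i` and `j` -/
def Bij (u v : Fin 3 → G) (i j : Fin 3) : Subgroup G := Subgroup.closure {el u v i, el u v j}

/-- the subgroup generated by the three elements of order 3 -/
def Aall (u v : Fin 3 → G) : Subgroup G := Subgroup.closure (Set.range (el u v))

theorem Three.comm_all (h : Three u v) (i j : Fin 3) : el u v i * el u v j = el u v j * el u v i := by
  by_cases hij : i = j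
  · subst hij; rfl
  · exact h.comm hij

theorem Three.isPGroup (h : Three u v) : IsPGroup 3 ↥(Aall u v) := by
  have hc : IsMulCommutative ↥(Aall u v) := by
    have := Subgroup.isMulCommutative_closure (k := Set.range (el u v)) (by
      rintro _ ⟨i, rfl⟩ _ ⟨j, rfl⟩
      exact h.comm_all i j)
    exact this
  rintro ⟨x, hx⟩
  refine ⟨1, ?_⟩
  apply Subtype.ext
  show x ^ (3 ^ 1) = 1
  rw [pow_one]
  induction hx using Subgroup.closure_induction with
  | mem z hz =>
    obtain ⟨i, rfl⟩ := hz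
    exact h.cube i
  | one => exact one_pow 3
  | mul a b ha hb h1 h2 =>
    have h3 : Commute a b := congrArg Subtype.val (hc.is_comm.comm ⟨a, ha⟩ ⟨b, hb⟩)
    rw [h3.mul_pow, h1, h2, one_mul]
  | inv a _ h1 => rw [inv_pow, h1, inv_one]

theorem Bij_le (u v : Fin 3 → G) (i j : Fin 3) : Bij u v i j ≤ Aall u v := by
  refine Subgroup.closure_mono ?_
  rintro _ (rfl | rfl)
  · exact ⟨i, rfl⟩
  · exact ⟨j, rfl⟩

theorem Three.rank (h : Three u v) [Finite G] {i j : Fin 3} (hij : i ≠ j) : ¬ PRankLE 3 1 ↥(Bij u v i j) := by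
  have : Fact (Nat.Prime 3) := ⟨Nat.prime_three⟩
  exact rank_two (x := el u v i) (y := el u v j) (Subgroup.subset_closure (Set.mem_insert _ _))
    (Subgroup.subset_closure (Set.mem_insert_of_mem _ rfl)) (h.cube i) (h.cube j) (h.ne_one i) (h.comm hij)
    (h.notMem hij)

/-- `s` centralizes the elements of order 3 of two of the pairs -/
theorem Three.norm_of_comm {s : G} {i j : Fin 3} (hi : s * el u v i = el u v i * s)
    (hj : s * el u v j = el u v j * s) : s ∈ Subgroup.normalizer ((Bij u v i j : Subgroup G) : Set G) := by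
  refine mem_normalizer_closure ?_ ?_
  · rintro _ (rfl | rfl)
    · rw [hi, mul_inv_cancel_right]; exact Subgroup.subset_closure (Set.mem_insert _ _)
    · rw [hj, mul_inv_cancel_right]; exact Subgroup.subset_closure (Set.mem_insert_of_mem _ rfl)
  · rintro _ (rfl | rfl)
    · rw [mul_assoc, ← hi, inv_mul_cancel_left]; exact Subgroup.subset_closure (Set.mem_insert _ _)
    · rw [mul_assoc, ← hj, inv_mul_cancel_left]; exact Subgroup.subset_closure (Set.mem_insert_of_mem _ rfl)

/-- the involution `u i` inverts the element of order 3 of its pair -/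
theorem Three.norm_u (h : Three u v) {i j : Fin 3} (hij : i ≠ j) :
    u i ∈ Subgroup.normalizer ((Bij u v i j : Subgroup G) : Set G) := by
  have h1 := h.su i
  have h1' : (u i)⁻¹ = u i := inv_eq_of_mul_eq_one_left h1
  have h2 : u i * el u v i * u i = (el u v i)⁻¹ := by
    show u i * (u i * v i) * u i = (u i * v i)⁻¹
    rw [h.inv_eq i, ← mul_assoc (u i) (u i) (v i), h1, one_mul]
  have h3 : u i * el u v j * u i = el u v j := by
    show u i * (u j * v j) * u i = u j * v j
    rw [← mul_assoc, h.uu i j hij, mul_assoc (u j), h.uv i j hij, ← mul_assoc, mul_assoc _ (u i), h1, mul_one]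
  refine mem_normalizer_closure ?_ ?_
  · rintro _ (rfl | rfl)
    · rw [h1', h2]; exact inv_mem (Subgroup.subset_closure (Set.mem_insert _ _))
    · rw [h1', h3]; exact Subgroup.subset_closure (Set.mem_insert_of_mem _ rfl)
  · rintro _ (rfl | rfl)
    · rw [h1', h2]; exact inv_mem (Subgroup.subset_closure (Set.mem_insert _ _))
    · rw [h1', h3]; exact Subgroup.subset_closure (Set.mem_insert_of_mem _ rfl)

/-- the involution `v i` inverts the element of order 3 of its pair -/
theorem Three.norm_v (h : Three u v) {i j : Fin 3} (hij : i ≠ j) :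
    v i ∈ Subgroup.normalizer ((Bij u v i j : Subgroup G) : Set G) := by
  have h1 := h.sv i
  have h1' : (v i)⁻¹ = v i := inv_eq_of_mul_eq_one_left h1
  have h2 : v i * el u v i * v i = (el u v i)⁻¹ := by
    show v i * (u i * v i) * v i = (u i * v i)⁻¹
    rw [h.inv_eq i, mul_assoc, mul_assoc (u i), h1, mul_one]
  have h3 : v i * el u v j * v i = el u v j := by
    show v i * (u j * v j) * v i = u j * v j
    rw [← mul_assoc, ← h.uv j i hij.symm, mul_assoc (u j), h.vv i j hij, ← mul_assoc, mul_assoc _ (v i), h1, mul_one]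
  refine mem_normalizer_closure ?_ ?_
  · rintro _ (rfl | rfl)
    · rw [h1', h2]; exact inv_mem (Subgroup.subset_closure (Set.mem_insert _ _))
    · rw [h1', h3]; exact Subgroup.subset_closure (Set.mem_insert_of_mem _ rfl)
  · rintro _ (rfl | rfl)
    · rw [h1', h2]; exact inv_mem (Subgroup.subset_closure (Set.mem_insert _ _))
    · rw [h1', h3]; exact Subgroup.subset_closure (Set.mem_insert_of_mem _ rfl)

/-- **The configuration lemma.** -/
theorem Three.full [Finite G] (h : Three u v) {S : Set G} (hS : Subgroup.closure S = ⊤)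
    (hs : ∀ s ∈ S, (∃ i, s = u i ∨ s = v i) ∨
      ∃ i j, i ≠ j ∧ s * u i = u i * s ∧ s * v i = v i * s ∧ s * u j = u j * s ∧ s * v j = v j * s) : Full 3 G := by
  have : Fact (Nat.Prime 3) := ⟨Nat.prime_three⟩
  have hex : ∀ i : Fin 3, ∃ j, i ≠ j := by decide
  refine full_of_witness h.isPGroup hS fun s hsS => ?_
  rcases hs s hsS with ⟨i, rfl | rfl⟩ | ⟨i, j, hij, h1, h2, h3, h4⟩
  · obtain ⟨j, hij⟩ := hex i
    exact ⟨Bij u v i j, Bij_le u v i j, h.rank hij, h.norm_u hij⟩
  · obtain ⟨j, hij⟩ := hex i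
    exact ⟨Bij u v i j, Bij_le u v i j, h.rank hij, h.norm_v hij⟩
  · refine ⟨Bij u v i j, Bij_le u v i j, h.rank hij, Three.norm_of_comm ?_ ?_⟩
    · show s * (u i * v i) = u i * v i * s
      rw [← mul_assoc, h1, mul_assoc, h2, mul_assoc]
    · show s * (u j * v j) = u j * v j * s
      rw [← mul_assoc, h3, mul_assoc, h4, mul_assoc]

end Cfsg.Agent.GammaTwo.Spor

end

-- merged: Cfsg.Agent.GammaTwo.SporNormal
section

/-!
# `Γ_{P,2}` and normal subgroups of index prime to `p` (helper79, for S1809)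
-/

set_option autoImplicit false
set_option maxHeartbeats 4000000

namespace Cfsg.Agent.GammaTwo.Spor

open Cfsg

variable {p : ℕ} {G : Type*} [Group G]

/-- `B` has `p`-rank at least 2, in terms of the ambient group. -/
def Rk (p : ℕ) (B : Subgroup G) : Prop :=
  ∃ E : Subgroup G, E ≤ B ∧ (∀ x ∈ E, ∀ y ∈ E, x * y = y * x) ∧ (∀ x ∈ E, x ^ p = 1) ∧ p < Nat.card ↥E

theorem rk_iff {B : Subgroup G} : ¬ PRankLE p 1 ↥B ↔ Rk p B := by
  constructor
  · intro h
    unfold PRankLE at h
    push Not at h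
    obtain ⟨A, hA, hAp, hc⟩ := h
    refine ⟨A.map B.subtype, Subgroup.map_subtype_le A, ?_, ?_, ?_⟩
    · rintro _ ⟨x, hx, rfl⟩ _ ⟨y, hy, rfl⟩
      exact congrArg Subtype.val (congrArg Subtype.val (hA.is_comm.comm ⟨x, hx⟩ ⟨y, hy⟩))
    · rintro _ ⟨x, hx, rfl⟩
      exact congrArg Subtype.val (hAp x hx)
    · rw [pow_one] at hc
      rwa [← Nat.card_congr (A.equivMapOfInjective _ B.subtype_injective).toEquiv]
  · rintro ⟨E, hEB, hc, hp, hcard⟩ h
    have h1 := h (E.subgroupOf B) ⟨⟨?_⟩⟩ ?_
    · rw [Nat.card_congr (Subgroup.subgroupOfEquivOfLe hEB).toEquiv, pow_one] at h1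
      omega
    · rintro ⟨⟨x, hxB⟩, hx⟩ ⟨⟨y, hyB⟩, hy⟩
      exact Subtype.ext (Subtype.ext (hc x hx y hy))
    · rintro ⟨x, hxB⟩ hx
      exact Subtype.ext (hp x hx)

theorem Rk.mono {A B : Subgroup G} (h : A ≤ B) (hA : Rk p A) : Rk p B := by
  obtain ⟨E, h1, h2⟩ := hA
  exact ⟨E, h1.trans h, h2⟩

theorem Rk.map {H : Type*} [Group H] (f : G →* H) (hf : Function.Injective f) {A : Subgroup G} (hA : Rk p A) :
    Rk p (A.map f) := by
  obtain ⟨E, h1, h2, h3, h4⟩ := hA
  refine ⟨E.map f, Subgroup.map_mono h1, ?_, ?_, ?_⟩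
  · rintro _ ⟨x, hx, rfl⟩ _ ⟨y, hy, rfl⟩
    rw [← map_mul, ← map_mul, h2 x hx y hy]
  · rintro _ ⟨x, hx, rfl⟩
    rw [← map_pow, h3 x hx, map_one]
  · rwa [← Nat.card_congr (E.equivMapOfInjective _ hf).toEquiv]

theorem Rk.of_map {H : Type*} [Group H] (f : G →* H) (hf : Function.Injective f) {A : Subgroup G}
    (hA : Rk p (A.map f)) : Rk p A := by
  obtain ⟨E, h1, h2, h3, h4⟩ := hA
  refine ⟨E.comap f, ?_, ?_, ?_, ?_⟩
  · intro x hx
    obtain ⟨y, hy, he⟩ := h1 hx
    rwa [hf he] at hy
  · intro x hx y hy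
    exact hf (by rw [map_mul, map_mul]; exact h2 _ hx _ hy)
  · intro x hx
    exact hf (by rw [map_pow, map_one]; exact h3 _ hx)
  · have h5 : (E.comap f).map f = E := by
      rw [Subgroup.map_comap_eq, inf_eq_right]
      intro x hx
      obtain ⟨y, -, he⟩ := h1 hx
      exact ⟨y, he⟩
    rwa [Nat.card_congr ((E.comap f).equivMapOfInjective _ hf).toEquiv, h5]

theorem Rk.isPGroup_le_sylow [Fact p.Prime] (h : Rk p (⊤ : Subgroup G)) [Finite G] (P : Sylow p G) :
    Rk p (P : Subgroup G) := by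
  obtain ⟨E, -, h2, h3, h4⟩ := h
  have hE : IsPGroup p ↥E := fun x => ⟨1, Subtype.ext (by rw [pow_one]; exact h3 x x.2)⟩
  obtain ⟨Q, hQ⟩ := hE.exists_le_sylow
  obtain ⟨g, hg⟩ := MulAction.exists_smul_eq G Q P
  have h5 : Rk p (Q : Subgroup G) := ⟨E, hQ, h2, h3, h4⟩
  rw [← hg, Sylow.coe_subgroup_smul]
  exact h5.map (MulAut.conj g).toMonoidHom (MulAut.conj g).injective

theorem Full.rk_sylow [Finite G] [Fact p.Prime] (h : Full p G) (hG : Nontrivial G) (P : Sylow p G) :
    Rk p (P : Subgroup G) := by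
  by_contra hn
  have h1 := h P
  have h2 : kGeneratedCore p 2 (P : Subgroup G) ≤ ⊥ := by
    refine core_le fun Q hQ hQ2 => ?_
    exact absurd ((rk_iff.1 hQ2).mono hQ) hn
  rw [h1] at h2
  obtain ⟨x, hx⟩ := exists_ne (1 : G)
  exact hx (Subgroup.mem_bot.1 (h2 (Subgroup.mem_top x)))

theorem mem_normalizer_conj {Q : Subgroup G} {g x : G} (hx : x ∈ Subgroup.normalizer (Q : Set G)) :
    g * x * g⁻¹ ∈ Subgroup.normalizer ((Q.map (MulAut.conj g).toMonoidHom : Subgroup G) : Set G) :=
  normalizer_map (MulAut.conj g) Q hx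

/-- **Normal subgroups of index prime to `p`.** -/
theorem Full.normal [Finite G] [Fact p.Prime] (h : Full p G) {N : Subgroup G} [hNn : N.Normal] (hN : ¬ p ∣ N.index)
    (hr : ¬ PRankLE p 1 ↥N) : Full p ↥N := by
  obtain ⟨P0⟩ : Nonempty (Sylow p ↥N) := inferInstance
  refine full_of_one (P' := P0) ?_
  set C : Subgroup ↥N := kGeneratedCore p 2 (P0 : Subgroup ↥N) with hC
  set M : Subgroup G := C.map N.subtype with hM
  set P : Subgroup G := (P0 : Subgroup ↥N).map N.subtype with hP
  have hMN : M ≤ N := Subgroup.map_subtype_le _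
  have hPN : P ≤ N := Subgroup.map_subtype_le _
  have hr0 : Rk p (P0 : Subgroup ↥N) := by
    have h1 : Rk p (N : Subgroup G) := rk_iff.1 hr
    have h2 : Rk p (⊤ : Subgroup ↥N) := by
      refine Rk.of_map N.subtype N.subtype_injective ?_
      rwa [← MonoidHom.range_eq_map, Subgroup.range_subtype]
    exact h2.isPGroup_le_sylow P0
  have hPM : P ≤ M := by
    refine Subgroup.map_mono ?_
    exact le_trans Subgroup.le_normalizer (fun x hx => mem_core le_rfl (rk_iff.2 hr0) hx)
  have hrP : Rk p P := hr0.map _ N.subtype_injective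
  -- normalizers in `N` of subgroups of `P`
  have hnorm : ∀ Q : Subgroup G, Q ≤ P → Rk p Q → N ⊓ Subgroup.normalizer (Q : Set G) ≤ M := by
    intro Q hQ hQr x hx
    have h1 : Q.subgroupOf N ≤ (P0 : Subgroup ↥N) := by
      intro y hy
      obtain ⟨z, hz, he⟩ := hQ hy
      have : z = y := Subtype.ext he
      rwa [← this]
    have h2 : Rk p (Q.subgroupOf N) := by
      refine Rk.of_map N.subtype N.subtype_injective ?_
      rwa [Subgroup.subgroupOf_map_subtype, inf_eq_left.2 (hQ.trans hPN)]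
    refine ⟨⟨x, hx.1⟩, mem_core h1 (rk_iff.2 h2) ?_, rfl⟩
    have h3 := Subgroup.mem_normalizer_iff.1 hx.2
    rw [Subgroup.mem_normalizer_iff]
    intro y
    exact h3 y
  -- `W = N_G(P)` normalizes `M`
  set W : Subgroup G := Subgroup.normalizer (P : Set G) with hW
  have hWM : ∀ w ∈ W, ∀ m ∈ M, w * m * w⁻¹ ∈ M := by
    intro w hw
    have h1 : M ≤ M.comap (MulAut.conj w).toMonoidHom := by
      rw [hM, Subgroup.map_le_iff_le_comap]
      refine core_le fun Q hQ hQ2 x hx => ?_
      show w * (x : G) * w⁻¹ ∈ M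
      have h2 : Q.map N.subtype ≤ P := Subgroup.map_mono hQ
      have h3 : (Q.map N.subtype).map (MulAut.conj w).toMonoidHom ≤ P := by
        rintro _ ⟨y, hy, rfl⟩
        exact (Subgroup.mem_normalizer_iff.1 hw y).1 (h2 hy)
      have h4 : Rk p ((Q.map N.subtype).map (MulAut.conj w).toMonoidHom) :=
        ((rk_iff.1 hQ2).map _ N.subtype_injective).map _ (MulAut.conj w).injective
      refine hnorm _ h3 h4 ⟨hNn.conj_mem _ x.2 w, mem_normalizer_conj ?_⟩
      rw [Subgroup.mem_normalizer_iff]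
      have h5 := Subgroup.mem_normalizer_iff.1 hx
      intro y
      constructor
      · rintro ⟨z, hz, rfl⟩
        exact ⟨x * z * x⁻¹, (h5 z).1 hz, rfl⟩
      · rintro ⟨z, hz, he⟩
        refine ⟨x⁻¹ * z * x, ?_, ?_⟩
        · rw [SetLike.mem_coe, h5]
          have : x * (x⁻¹ * z * x) * x⁻¹ = z := by group
          rwa [this]
        · show (x : G)⁻¹ * (z : G) * x = y
          have h6 : (z : G) = x * y * (x : G)⁻¹ := he
          rw [h6]; group
    intro m hm
    exact h1 hm
  set K : Subgroup G := M ⊔ W with hK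
  -- all normalizers lie in `K`
  have hconj : ∀ Q : Subgroup G, IsPGroup p ↥Q → Q ≤ M → ∃ m ∈ M, Q.map (MulAut.conj m).toMonoidHom ≤ P := by
    intro Q hQp hQM
    have hPp : IsPGroup p ↥P := P0.2.map _
    have h1 : IsPGroup p ↥(P.subgroupOf M) := hPp.comap_of_injective _ M.subtype_injective
    have h2 : IsPGroup p ↥(Q.subgroupOf M) := hQp.comap_of_injective _ M.subtype_injective
    obtain ⟨S, hS⟩ := h1.exists_le_sylow
    have hSP : (S : Subgroup ↥M).map M.subtype ≤ P := by
      have h3 : ((S : Subgroup ↥M).map M.subtype).subgroupOf N ≤ (P0 : Subgroup ↥N) := by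
        have h4 : IsPGroup p ↥(((S : Subgroup ↥M).map M.subtype).subgroupOf N) :=
          (S.2.map _).comap_of_injective _ N.subtype_injective
        have h5 : (P0 : Subgroup ↥N) ≤ ((S : Subgroup ↥M).map M.subtype).subgroupOf N := by
          intro y hy
          have h6 : (y : G) ∈ P := ⟨y, hy, rfl⟩
          exact ⟨⟨y, hPM h6⟩, hS h6, rfl⟩
        exact le_of_eq (P0.3 h4 h5)
      intro x hx
      have hxM : x ∈ M := Subgroup.map_subtype_le _ hx
      exact ⟨⟨x, hMN hxM⟩, h3 hx, rfl⟩
    obtain ⟨R, hR⟩ := h2.exists_le_sylow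
    obtain ⟨m, hm⟩ := MulAction.exists_smul_eq ↥M R S
    refine ⟨m, m.2, ?_⟩
    rintro _ ⟨q, hq, rfl⟩
    apply hSP
    refine ⟨m * ⟨q, hQM hq⟩ * m⁻¹, ?_, rfl⟩
    rw [← hm]
    have h7 : (⟨q, hQM hq⟩ : ↥M) ∈ (R : Subgroup ↥M) := hR hq
    rw [Sylow.coe_subgroup_smul]
    exact Subgroup.smul_mem_pointwise_smul _ (MulAut.conj m) _ h7
  have hind : ∀ (n : ℕ) (Q : Subgroup G), IsPGroup p ↥Q → Q ≤ M → Rk p Q → Nat.card ↥N < Nat.card ↥Q + n →
      Subgroup.normalizer (Q : Set G) ≤ K := by
    intro n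
    induction n with
    | zero =>
      intro Q _ hQM _ hc
      have := Subgroup.card_le_of_le (hQM.trans hMN)
      omega
    | succ n ih =>
      intro Q hQp hQM hQr hc
      set X : Subgroup G := Subgroup.normalizer (Q : Set G) with hX
      have hQX : Q ≤ X := Subgroup.le_normalizer
      -- a Sylow subgroup of `N ⊓ X`
      have hnor : ((N ⊓ X).subgroupOf X).Normal := by
        rw [Subgroup.inf_subgroupOf_right]
        infer_instance
      obtain ⟨R⟩ : Nonempty (Sylow p ↥((N ⊓ X).subgroupOf X)) := inferInstance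
      have hfr := Sylow.normalizer_sup_eq_top R
      set R' : Subgroup G := ((R : Subgroup ↥((N ⊓ X).subgroupOf X)).map
        ((N ⊓ X).subgroupOf X).subtype).map X.subtype with hR'
      have hR'p : IsPGroup p ↥R' := (R.2.map _).map _
      have hR'NX : R' ≤ N ⊓ X := by
        rintro _ ⟨_, ⟨y, hy, rfl⟩, rfl⟩
        exact y.2
      have hNXM : N ⊓ X ≤ M := by
        obtain ⟨m, hm, hmP⟩ := hconj Q hQp hQM
        intro x hx
        have h1 := hnorm _ hmP (hQr.map _ (MulAut.conj m).injective) (x := m * x * m⁻¹)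
          ⟨hNn.conj_mem _ hx.1 m, mem_normalizer_conj hx.2⟩
        have h2 : m⁻¹ * (m * x * m⁻¹) * m = x := by group
        rw [← h2]
        exact mul_mem (mul_mem (inv_mem hm) h1) hm
      have hR'M : R' ≤ M := hR'NX.trans hNXM
      have hQR' : Q ≤ R' := by
        have hQn : (Q.subgroupOf X).Normal := Subgroup.normal_in_normalizer
        have h1 : ((Q.subgroupOf X).subgroupOf ((N ⊓ X).subgroupOf X)) ≤ (R : Subgroup ↥((N ⊓ X).subgroupOf X)) := by
          have h2 : ((Q.subgroupOf X).subgroupOf ((N ⊓ X).subgroupOf X)).Normal := inferInstance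
          have h3 : IsPGroup p ↥((Q.subgroupOf X).subgroupOf ((N ⊓ X).subgroupOf X)) :=
            (hQp.comap_of_injective _ X.subtype_injective).comap_of_injective _
              (Subgroup.subtype_injective _)
          exact h3.le_sylow_of_normal R
        intro q hq
        have h4 : (⟨⟨q, hQX hq⟩, ⟨hMN (hQM hq), hQX hq⟩⟩ : ↥((N ⊓ X).subgroupOf X)) ∈
            ((Q.subgroupOf X).subgroupOf ((N ⊓ X).subgroupOf X)) := hq
        exact ⟨⟨q, hQX hq⟩, ⟨⟨⟨q, hQX hq⟩, ⟨hMN (hQM hq), hQX hq⟩⟩, h1 h4, rfl⟩, rfl⟩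
      -- Frattini
      have hXle : X ≤ (N ⊓ X) ⊔ Subgroup.normalizer (R' : Set G) := by
        intro x hx
        have h1 : (⟨x, hx⟩ : ↥X) ∈ Subgroup.normalizer
            (((R : Subgroup ↥((N ⊓ X).subgroupOf X)).map ((N ⊓ X).subgroupOf X).subtype : Subgroup ↥X) : Set ↥X) ⊔
            (N ⊓ X).subgroupOf X := by rw [hfr]; trivial
        obtain ⟨a, ha, b, hb, hab⟩ := Subgroup.mem_sup_of_normal_right.1 h1
        have h2 : (x : G) = a * b := congrArg Subtype.val hab.symm
        rw [h2]
        refine mul_mem (Subgroup.mem_sup_right ?_) (Subgroup.mem_sup_left hb)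
        rw [Subgroup.mem_normalizer_iff]
        have h3 := Subgroup.mem_normalizer_iff.1 ha
        intro y
        constructor
        · rintro ⟨z, hz, rfl⟩
          exact ⟨a * z * a⁻¹, (h3 z).1 hz, rfl⟩
        · rintro ⟨z, hz, he⟩
          refine ⟨a⁻¹ * z * a, ?_, ?_⟩
          · rw [SetLike.mem_coe, h3]
            have : a * (a⁻¹ * z * a) * a⁻¹ = z := by group
            rwa [this]
          · show (a : G)⁻¹ * (z : G) * a = y
            have h6 : (z : G) = a * y * (a : G)⁻¹ := he
            rw [h6]; group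
      refine hXle.trans (sup_le (hNXM.trans le_sup_left) ?_)
      by_cases hRQ : R' = Q
      · -- `Q` is a Sylow subgroup of `N`
        obtain ⟨m, hm, hmP⟩ := hconj Q hQp hQM
        have hQP : Q.map (MulAut.conj m).toMonoidHom = P := by
          refine le_antisymm hmP ?_
          -- `Q^m < P` would be contained properly in its normalizer in `P`
          by_contra hlt
          set Q1 : Subgroup G := Q.map (MulAut.conj m).toMonoidHom with hQ1
          have hPp : IsPGroup p ↥P := P0.2.map _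
          have h1 : Q1.subgroupOf P < ⊤ := by
            rw [lt_top_iff_ne_top]
            intro h2
            exact hlt (Subgroup.subgroupOf_eq_top.1 h2)
          have : Group.IsNilpotent ↥P := hPp.isNilpotent
          have h3 := Group.normalizerCondition_of_isNilpotent (G := ↥P) _ h1
          obtain ⟨y, hy, hyn⟩ := SetLike.exists_of_lt h3
          -- `m⁻¹ y m` normalizes `Q`
          have hyQ1 : (y : G) ∈ Subgroup.normalizer (Q1 : Set G) := by
            rw [Subgroup.mem_normalizer_iff]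
            have h4 := Subgroup.mem_normalizer_iff.1 hy
            intro z
            constructor
            · intro hz
              exact (h4 ⟨z, hmP hz⟩).1 hz
            · intro hz
              have h5 : (y : G) * z * (y : G)⁻¹ ∈ P := hmP hz
              have h6 : z ∈ P := by
                have : z = (y : G)⁻¹ * (y * z * (y : G)⁻¹) * y := by group
                rw [this]
                exact mul_mem (mul_mem (inv_mem y.2) h5) y.2
              exact (h4 ⟨z, h6⟩).2 hz
          have hyP : (y : G) ∈ P := y.2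
          set w : G := m⁻¹ * y * m with hw
          have hwX : w ∈ X := by
            have h5 := normalizer_map (MulAut.conj m⁻¹) Q1 hyQ1
            have h6 : Q1.map (MulAut.conj m⁻¹).toMonoidHom = Q := by
              rw [hQ1, Subgroup.map_map]
              ext z
              constructor
              · rintro ⟨q, hq, rfl⟩
                have : ((MulAut.conj m⁻¹).toMonoidHom.comp (MulAut.conj m).toMonoidHom) q = q := by
                  show m⁻¹ * (m * q * m⁻¹) * m⁻¹⁻¹ = q
                  group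
                rw [this]; exact hq
              · intro hz
                refine ⟨z, hz, ?_⟩
                show m⁻¹ * (m * z * m⁻¹) * m⁻¹⁻¹ = z
                group
            rw [h6] at h5
            have h7 : (MulAut.conj m⁻¹) (y : G) = w := by
              show m⁻¹ * y * m⁻¹⁻¹ = w
              rw [inv_inv]
            rwa [h7] at h5
          have hwN : w ∈ N := hMN (mul_mem (mul_mem (inv_mem hm) (hPM hyP)) hm)
          -- `⟨Q, w⟩` is a `p`-group in `N ⊓ X`
          have hwp : IsPGroup p ↥(Subgroup.zpowers w) := by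
            obtain ⟨k, hk⟩ := hPp ⟨y, hyP⟩
            have h8 : w ^ p ^ k = 1 := by
              have h9 : (y : G) ^ p ^ k = 1 := congrArg Subtype.val hk
              have h10 : ((y : ↥P) : G) ^ p ^ k = 1 := h9
              have h101 : w ^ p ^ k = m⁻¹ * ((y : ↥P) : G) ^ p ^ k * m := by
                rw [hw]
                have := conj_pow (a := m⁻¹) (b := ((y : ↥P) : G)) (i := p ^ k)
                rw [inv_inv] at this
                exact this
              rw [h101, h10]; group
            rintro ⟨x, j, rfl⟩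
            refine ⟨k, Subtype.ext ?_⟩
            show (w ^ j) ^ p ^ k = 1
            rw [← zpow_natCast, ← zpow_mul, mul_comm, zpow_mul, zpow_natCast, h8, one_zpow]
          have h11 : IsPGroup p ↥(Q ⊔ Subgroup.zpowers w) :=
            hQp.to_sup_of_normal_left' hwp (by rw [Subgroup.zpowers_le]; exact hwX)
          have h12 : Q ⊔ Subgroup.zpowers w ≤ N ⊓ X :=
            sup_le (le_inf (hQM.trans hMN) hQX) (by rw [Subgroup.zpowers_le]; exact ⟨hwN, hwX⟩)
          have h13 : (R : Subgroup ↥((N ⊓ X).subgroupOf X)) ≤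
              ((Q ⊔ Subgroup.zpowers w).subgroupOf X).subgroupOf ((N ⊓ X).subgroupOf X) := by
            intro r hr
            have h14 : ((r : ↥X) : G) ∈ R' := ⟨r, ⟨r, hr, rfl⟩, rfl⟩
            rw [hRQ] at h14
            exact (le_sup_left : Q ≤ Q ⊔ Subgroup.zpowers w) h14
          have h15 := R.3 ((h11.comap_of_injective _ X.subtype_injective).comap_of_injective _
            (Subgroup.subtype_injective ((N ⊓ X).subgroupOf X))) h13
          have h16 : w ∈ Q := by
            have h17 : (⟨⟨w, hwX⟩, ⟨hwN, hwX⟩⟩ : ↥((N ⊓ X).subgroupOf X)) ∈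
                ((Q ⊔ Subgroup.zpowers w).subgroupOf X).subgroupOf ((N ⊓ X).subgroupOf X) :=
              (le_sup_right : Subgroup.zpowers w ≤ Q ⊔ Subgroup.zpowers w) (Subgroup.mem_zpowers w)
            have h18 : (⟨⟨w, hwX⟩, ⟨hwN, hwX⟩⟩ : ↥((N ⊓ X).subgroupOf X)) ∈
                (R : Subgroup ↥((N ⊓ X).subgroupOf X)) := by
              rw [← h15]; exact h17
            rw [← hRQ]
            exact ⟨⟨w, hwX⟩, ⟨_, h18, rfl⟩, rfl⟩
          apply hyn
          show (y : G) ∈ Q1
          refine ⟨w, h16, ?_⟩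
          show m * w * m⁻¹ = y
          rw [hw]; group
        rw [hRQ]
        intro x hx
        have h1 : m * x * m⁻¹ ∈ W := by
          have h2 := mem_normalizer_conj (g := m) hx
          rw [hQP] at h2
          exact h2
        have h2 : m⁻¹ * (m * x * m⁻¹) * m = x := by group
        rw [← h2]
        have hmK : m ∈ K := (le_sup_left : M ≤ K) hm
        exact mul_mem (mul_mem (inv_mem hmK) ((le_sup_right : W ≤ K) h1)) hmK
      · have hlt : Q < R' := lt_of_le_of_ne hQR' (Ne.symm hRQ)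
        have hcard : Nat.card ↥Q < Nat.card ↥R' := Set.Finite.card_lt_card (Set.toFinite _) hlt
        exact ih R' hR'p hR'M (hQr.mono hQR') (by omega)
  -- `P` is a Sylow subgroup of `G`
  have hKtop : K = ⊤ := by
    have hPp : IsPGroup p ↥P := P0.2.map _
    obtain ⟨S, hS⟩ := hPp.exists_le_sylow
    have hSP : (S : Subgroup G) = P := by
      refine le_antisymm ?_ hS
      have hSN : (S : Subgroup G) ≤ N := by
        intro x hx
        obtain ⟨k, hk⟩ := S.2 ⟨x, hx⟩
        have hk' : x ^ p ^ k = 1 := congrArg Subtype.val hk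
        have h1 : orderOf (QuotientGroup.mk' N x) ∣ p ^ k :=
          orderOf_dvd_of_pow_eq_one (by rw [← map_pow, hk', map_one])
        have h2 : orderOf (QuotientGroup.mk' N x) ∣ N.index := by
          rw [Subgroup.index_eq_card]
          exact orderOf_dvd_natCard _
        have h3 : (p ^ k).Coprime N.index :=
          Nat.Coprime.pow_left k (((Fact.out : p.Prime).coprime_iff_not_dvd).2 hN)
        have h4 : orderOf (QuotientGroup.mk' N x) = 1 := Nat.eq_one_of_dvd_coprimes h3 h1 h2
        rw [orderOf_eq_one_iff] at h4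
        exact (QuotientGroup.eq_one_iff x).1 h4
      intro x hx
      have h5 : (S : Subgroup G).subgroupOf N = (P0 : Subgroup ↥N) := by
        refine P0.3 (S.2.comap_of_injective _ N.subtype_injective) ?_
        intro y hy
        exact hS ⟨y, hy, rfl⟩
      refine ⟨⟨x, hSN hx⟩, ?_, rfl⟩
      have h6 : (⟨x, hSN hx⟩ : ↥N) ∈ (S : Subgroup G).subgroupOf N := hx
      rw [h5] at h6
      exact h6
    rw [eq_top_iff, ← h S]
    refine core_le fun Q hQ hQ2 => ?_
    rw [hSP] at hQ
    have hQp : IsPGroup p ↥Q := hPp.to_le hQ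
    exact hind (Nat.card ↥N + 1) Q hQp (hQ.trans hPM) (rk_iff.1 hQ2) (by omega)
  -- conclusion
  rw [eq_top_iff]
  intro n _
  have hn : (n : G) ∈ K := by rw [hKtop]; trivial
  have hsup : (n : G) ∈ M ⊔ W := hn
  have hnorm2 : W ≤ Subgroup.normalizer (M : Set G) := by
    intro w hw
    rw [Subgroup.mem_normalizer_iff]
    intro x
    refine ⟨fun hx => hWM w hw x hx, fun hx => ?_⟩
    have h1 := hWM w⁻¹ (inv_mem hw) _ hx
    have h2 : w⁻¹ * (w * x * w⁻¹) * w⁻¹⁻¹ = x := by group
    rwa [h2] at h1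
  rw [sup_comm] at hsup
  rw [← SetLike.mem_coe, Subgroup.coe_mul_of_left_le_normalizer_right W M hnorm2] at hsup
  obtain ⟨w, hw, m, hm, hwm⟩ := hsup
  have hwm' : w * m = (n : G) := hwm
  have hwN : w ∈ N := by
    have : w = n * m⁻¹ := by rw [← hwm']; group
    rw [this]
    exact mul_mem n.2 (inv_mem (hMN hm))
  have hwM : w ∈ M := hnorm P le_rfl hrP ⟨hwN, hw⟩
  have hnM : (n : G) ∈ M := by rw [← hwm']; exact mul_mem hwM hm
  obtain ⟨c, hc, he⟩ := hnM
  have : c = n := Subtype.ext he
  rwa [← this]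

end Cfsg.Agent.GammaTwo.Spor

end

-- merged: Cfsg.Agent.GammaTwo.SporCox
section

/-!
# `Γ_{P,2}(G) = G` at `p = 3` for groups generated by a Coxeter-like family of involutions (helper79, for S1809)
-/

set_option autoImplicit false

namespace Cfsg.Agent.GammaTwo.Spor

open Cfsg

/-- A family of involutions indexed by the nodes of a simply laced graph and satisfying the Coxeter relations. -/
structure CoxFam {ι G : Type*} [Group G] (adj : ι → ι → Bool) (t : ι → G) : Prop where
  sq : ∀ i, t i * t i = 1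
  cm : ∀ i j, adj i j = false → t i * t j = t j * t i
  br : ∀ i j, adj i j = true → t i * t j * t i = t j * t i * t j

/-- all nodes reached from the nodes of the list in `n` steps -/
def reach {ι : Type*} (adj : ι → ι → Bool) (l : List ι) : ℕ → List ι → List ι
  | 0, S => S
  | n + 1, S => reach adj l n (S ++ l.filter fun z => S.any fun y => adj y z)

variable {ι G : Type*} [Group G] {adj : ι → ι → Bool} {t : ι → G}

/-- The nodes `z` whose involution is `g`, with a neighbour of the same kind. -/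
def Coll (adj : ι → ι → Bool) (t : ι → G) (g : G) (z : ι) : Prop := t z = g ∧ ∃ w, adj z w = true ∧ t w = g

theorem eq_of_comm_br {a b : G} (ha : a * a = 1) (hb : b * b = 1) (hc : a * b = b * a)
    (hbr : a * b * a = b * a * b) : a = b := by
  have h1 : a * b * a = b := by rw [hc, mul_assoc, ha, mul_one]
  have h2 : b * a * b = a := by rw [← hc, mul_assoc, hb, mul_one]
  rw [h1, h2] at hbr
  exact hbr.symm

theorem CoxFam.coll_step (h : CoxFam adj t) (hs : ∀ x y, adj x y = adj y x)
    (htri : ∀ x y z, adj x y = true → adj y z = true → adj x z = false) {g : G} {z z' : ι}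
    (hz : Coll adj t g z) (ha : adj z z' = true) : Coll adj t g z' := by
  obtain ⟨h1, w, hw, h2⟩ := hz
  have h3 : adj w z' = false := htri w z z' (by rw [hs]; exact hw) ha
  have h4 := h.cm w z' h3
  rw [h2, ← h1] at h4
  have h5 := eq_of_comm_br (h.sq z) (h.sq z') h4 (h.br z z' ha)
  exact ⟨h5.symm.trans h1, z, by rw [hs]; exact ha, h1⟩

theorem CoxFam.coll_reach (h : CoxFam adj t) (hs : ∀ x y, adj x y = adj y x)
    (htri : ∀ x y z, adj x y = true → adj y z = true → adj x z = false) {g : G} (l : List ι) :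
    ∀ (n : ℕ) (S : List ι), (∀ z ∈ S, Coll adj t g z) → ∀ z ∈ reach adj l n S, Coll adj t g z
  | 0, _, hS => hS
  | n + 1, S, hS => by
    refine CoxFam.coll_reach h hs htri l n _ ?_
    intro z hz
    rw [List.mem_append, List.mem_filter, List.any_eq_true] at hz
    rcases hz with hz | ⟨-, y, hy, hyz⟩
    · exact hS z hz
    · exact h.coll_step hs htri (hS y hy) hyz

/-- The checks on the graph: symmetric, triangle-free, connected, with three commuting edges such that every node is
an end of one of them or is joined to at most one of them. -/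
structure Good (adj : ι → ι → Bool) (l : List ι) (u v : Fin 3 → ι) : Prop where
  symm : ∀ x y, adj x y = adj y x
  tri : ∀ x y z, adj x y = true → adj y z = true → adj x z = false
  conn : ∀ i, ∀ z, z ∈ reach adj l l.length [u i]
  edge : ∀ i, adj (u i) (v i) = true
  uu : ∀ i j, i ≠ j → adj (u i) (u j) = false
  uv : ∀ i j, i ≠ j → adj (u i) (v j) = false
  vv : ∀ i j, i ≠ j → adj (v i) (v j) = false
  all : ∀ s, (∃ i, s = u i ∨ s = v i) ∨
    ∃ i j, i ≠ j ∧ adj s (u i) = false ∧ adj s (v i) = false ∧ adj s (u j) = false ∧ adj s (v j) = false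

theorem CoxFam.ne (h : CoxFam adj t) {l : List ι} {u v : Fin 3 → ι} (hg : Good adj l u v)
    (hgen : Subgroup.closure (Set.range t) = ⊤) (hna : ¬ ∀ a b : G, a * b = b * a) (i : Fin 3) : t (u i) ≠ t (v i) := by
  intro he
  apply hna
  have h1 : ∀ z, t z = t (u i) := by
    intro z
    refine (h.coll_reach hg.symm hg.tri (g := t (u i)) l l.length [u i] ?_ z (hg.conn i z)).1
    intro y hy
    rw [List.mem_singleton] at hy
    subst hy
    exact ⟨rfl, v i, hg.edge i, he.symm⟩
  have h2 : ∀ a : G, a ∈ Subgroup.zpowers (t (u i)) := by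
    intro a
    have ha : a ∈ Subgroup.closure (Set.range t) := by rw [hgen]; trivial
    refine (Subgroup.closure_le _).2 ?_ ha
    rintro _ ⟨z, rfl⟩
    rw [h1 z]
    exact Subgroup.mem_zpowers _
  intro a b
  obtain ⟨m, rfl⟩ := h2 a
  obtain ⟨n, rfl⟩ := h2 b
  exact (Commute.zpow_zpow_self (t (u i)) m n)

/-- **`Γ_{P,2}(G) = G` at `p = 3` from the graph.** -/
theorem CoxFam.full [Finite G] (h : CoxFam adj t) {l : List ι} {u v : Fin 3 → ι} (hg : Good adj l u v)
    (hgen : Subgroup.closure (Set.range t) = ⊤) (hna : ¬ ∀ a b : G, a * b = b * a) : Full 3 G := by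
  have h3 : Three (fun i => t (u i)) (fun i => t (v i)) :=
    { su := fun i => h.sq _
      sv := fun i => h.sq _
      br := fun i => h.br _ _ (hg.edge i)
      ne := fun i => h.ne hg hgen hna i
      uu := fun i j hij => h.cm _ _ (hg.uu i j hij)
      uv := fun i j hij => h.cm _ _ (hg.uv i j hij)
      vv := fun i j hij => h.cm _ _ (hg.vv i j hij) }
  refine h3.full hgen ?_
  rintro _ ⟨s, rfl⟩
  rcases hg.all s with ⟨i, rfl | rfl⟩ | ⟨i, j, hij, h1, h2, h3, h4⟩
  · exact Or.inl ⟨i, Or.inl rfl⟩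
  · exact Or.inl ⟨i, Or.inr rfl⟩
  · exact Or.inr ⟨i, j, hij, h.cm _ _ h1, h.cm _ _ h2, h.cm _ _ h3, h.cm _ _ h4⟩

/-! ### Presented groups -/

section Pres

open Cfsg.Spor

variable {α : Type*} [DecidableEq α] {edges : List (α × ℕ × α)} {extra : List (FreeGroup α)}

/-- the images of the generators -/
def gen (edges : List (α × ℕ × α)) (extra : List (FreeGroup α)) (x : α) : CoxPresented α edges extra :=
  PresentedGroup.of x

theorem gen_pow {x y : α} (hx : x ∈ coxNodes edges) (hy : y ∈ coxNodes edges) :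
    (gen edges extra x * gen edges extra y) ^ coxLabel edges x y = 1 := by
  have h1 : (FreeGroup.of x * FreeGroup.of y) ^ coxLabel edges x y ∈
      coxRelators edges ∪ {r | r ∈ extra} := Or.inl ⟨x, hx, y, hy, rfl⟩
  have h2 := PresentedGroup.one_of_mem h1
  rw [map_pow, map_mul] at h2
  exact h2

/-- adjacency: label 3 -/
def adjOf (edges : List (α × ℕ × α)) (x y : α) : Bool := coxLabel edges x y == 3

theorem coxFam_gen (hn : ∀ x, x ∈ coxNodes edges)
    (hl : ∀ x y, coxLabel edges x y = 1 ∧ x = y ∨ coxLabel edges x y = 2 ∨ coxLabel edges x y = 3) :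
    CoxFam (adjOf edges) (gen edges extra) := by
  have hsq : ∀ x, gen edges extra x * gen edges extra x = 1 := by
    intro x
    have h1 := gen_pow (extra := extra) (hn x) (hn x)
    have h2 : coxLabel edges x x = 1 := if_pos rfl
    rwa [h2, pow_one] at h1
  refine ⟨hsq, ?_, ?_⟩
  · intro x y hxy
    rcases hl x y with ⟨-, rfl⟩ | h1 | h1
    · rfl
    · have h2 := gen_pow (extra := extra) (hn x) (hn y)
      rw [h1, pow_two] at h2
      have hx := hsq x
      have hy := hsq y
      set a := gen edges extra x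
      set b := gen edges extra y
      calc a * b = a * b * ((a * b) * (a * b))⁻¹ := by rw [h2, inv_one, mul_one]
        _ = b⁻¹ * a⁻¹ := by group
        _ = b * a := by rw [inv_eq_of_mul_eq_one_left hx, inv_eq_of_mul_eq_one_left hy]
    · unfold adjOf at hxy
      rw [h1] at hxy
      exact absurd hxy (by decide)
  · intro x y hxy
    have h1 : coxLabel edges x y = 3 := by
      unfold adjOf at hxy
      exact beq_iff_eq.1 hxy
    have h2 := gen_pow (extra := extra) (hn x) (hn y)
    rw [h1] at h2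
    have hx := hsq x
    have hy := hsq y
    set a := gen edges extra x
    set b := gen edges extra y
    have h3 : a * b * a * (b * a * b) = 1 := by
      have : a * b * a * (b * a * b) = (a * b) ^ 3 := by
        rw [pow_succ, pow_succ, pow_one]; simp only [mul_assoc]
      rw [this, h2]
    have h4 : (b * a * b) * (b * a * b) = 1 := by
      calc (b * a * b) * (b * a * b) = b * a * (b * b) * a * b := by group
        _ = 1 := by rw [hy, mul_one, mul_assoc b, hx, mul_one, hy]
    calc a * b * a = a * b * a * ((b * a * b) * (b * a * b)) := by rw [h4, mul_one]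
      _ = (a * b * a * (b * a * b)) * (b * a * b) := by group
      _ = b * a * b := by rw [h3, one_mul]

theorem closure_gen : Subgroup.closure (Set.range (gen edges extra)) = ⊤ :=
  PresentedGroup.closure_range_of _

end Pres

end Cfsg.Agent.GammaTwo.Spor

end

-- merged: Cfsg.Agent.GammaTwo.SporInst
section

/-!
# `Γ_{P,2}(G) = G` at `p = 3` for `Fi22`, `Fi23`, `Fi24`, `B` (helper79, for S1809)
-/

set_option autoImplicit false

namespace Cfsg.Agent.GammaTwo.Spor

open Cfsg Cfsg.Spor

/-! ### Fi22 -/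

def uFi22 : Fin 3 → Fi22.Gen := ![.a, .f, .h]
def vFi22 : Fin 3 → Fi22.Gen := ![.b, .g, .i]
def lFi22 : List Fi22.Gen := [.a, .b, .c, .d, .e, .f, .g, .h, .i]

@[reducible] def finFi22 : Fintype Fi22.Gen := ⟨lFi22.toFinset, by intro x; cases x <;> decide⟩

section
attribute [local instance] finFi22

theorem goodFi22 : Good (adjOf Fi22.edges) lFi22 uFi22 vFi22 where
  symm := by decide +kernel
  tri := by decide +kernel
  conn := by decide +kernel
  edge := by decide +kernel
  uu := by decide +kernel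
  uv := by decide +kernel
  vv := by decide +kernel
  all := by decide +kernel

theorem nodesFi22 : ∀ x, x ∈ coxNodes Fi22.edges := by decide +kernel

theorem labFi22 : ∀ x y, coxLabel Fi22.edges x y = 1 ∧ x = y ∨ coxLabel Fi22.edges x y = 2 ∨
    coxLabel Fi22.edges x y = 3 := by decide +kernel

end

theorem fullFi22 [Finite Fi22] (hna : ¬ ∀ a b : Fi22, a * b = b * a) : Full 3 Fi22 :=
  (coxFam_gen nodesFi22 labFi22).full goodFi22 closure_gen hna

/-! ### Fi23 -/

def uFi23 : Fin 3 → Fi23.Gen := ![.a, .f, .h]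
def vFi23 : Fin 3 → Fi23.Gen := ![.b, .g, .i]
def lFi23 : List Fi23.Gen := [.a, .b, .c, .d, .e, .f, .g, .j, .h, .i]

@[reducible] def finFi23 : Fintype Fi23.Gen := ⟨lFi23.toFinset, by intro x; cases x <;> decide⟩

section
attribute [local instance] finFi23

theorem goodFi23 : Good (adjOf Fi23.edges) lFi23 uFi23 vFi23 where
  symm := by decide +kernel
  tri := by decide +kernel
  conn := by decide +kernel
  edge := by decide +kernel
  uu := by decide +kernel
  uv := by decide +kernel
  vv := by decide +kernel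
  all := by decide +kernel

theorem nodesFi23 : ∀ x, x ∈ coxNodes Fi23.edges := by decide +kernel

theorem labFi23 : ∀ x y, coxLabel Fi23.edges x y = 1 ∧ x = y ∨ coxLabel Fi23.edges x y = 2 ∨
    coxLabel Fi23.edges x y = 3 := by decide +kernel

end

theorem fullFi23 [Finite Fi23] (hna : ¬ ∀ a b : Fi23, a * b = b * a) : Full 3 Fi23 :=
  (coxFam_gen nodesFi23 labFi23).full goodFi23 closure_gen hna

/-! ### Fi24 -/

def uFi24 : Fin 3 → Fi24.Gen := ![.a, .f, .h]
def vFi24 : Fin 3 → Fi24.Gen := ![.b, .g, .i]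
def lFi24 : List Fi24.Gen := [.l, .k, .a, .b, .c, .d, .e, .f, .g, .j, .h, .i]

@[reducible] def finFi24 : Fintype Fi24.Gen := ⟨lFi24.toFinset, by intro x; cases x <;> decide⟩

section
attribute [local instance] finFi24

theorem goodFi24 : Good (adjOf Fi24.edges) lFi24 uFi24 vFi24 where
  symm := by decide +kernel
  tri := by decide +kernel
  conn := by decide +kernel
  edge := by decide +kernel
  uu := by decide +kernel
  uv := by decide +kernel
  vv := by decide +kernel
  all := by decide +kernel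

theorem nodesFi24 : ∀ x, x ∈ coxNodes Fi24.edges := by decide +kernel

theorem labFi24 : ∀ x y, coxLabel Fi24.edges x y = 1 ∧ x = y ∨ coxLabel Fi24.edges x y = 2 ∨
    coxLabel Fi24.edges x y = 3 := by decide +kernel

end

theorem fullFi24 [Finite Fi24] (hna : ¬ ∀ a b : Fi24, a * b = b * a) : Full 3 Fi24 :=
  (coxFam_gen nodesFi24 labFi24).full goodFi24 closure_gen hna

/-! ### B -/

def uB : Fin 3 → BabyMonster.Gen := ![.t1, .t7, .t10]
def vB : Fin 3 → BabyMonster.Gen := ![.t2, .t8, .t11]
def lB : List BabyMonster.Gen := [.t1, .t2, .t3, .t4, .t5, .t6, .t7, .t8, .t9, .t10, .t11]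

@[reducible] def finB : Fintype BabyMonster.Gen := ⟨lB.toFinset, by intro x; cases x <;> decide⟩

section
attribute [local instance] finB

theorem goodB : Good (adjOf BabyMonster.edges) lB uB vB where
  symm := by decide +kernel
  tri := by decide +kernel
  conn := by decide +kernel
  edge := by decide +kernel
  uu := by decide +kernel
  uv := by decide +kernel
  vv := by decide +kernel
  all := by decide +kernel

theorem nodesB : ∀ x, x ∈ coxNodes BabyMonster.edges := by decide +kernel

theorem labB : ∀ x y, coxLabel BabyMonster.edges x y = 1 ∧ x = y ∨ coxLabel BabyMonster.edges x y = 2 ∨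
    coxLabel BabyMonster.edges x y = 3 := by decide +kernel

end

theorem fullB [Finite BabyMonster] (hna : ¬ ∀ a b : BabyMonster, a * b = b * a) : Full 3 BabyMonster :=
  (coxFam_gen nodesB labB).full goodB closure_gen hna

end Cfsg.Agent.GammaTwo.Spor

end

-- merged: Cfsg.Agent.GammaTwo.SporPM
section

/-!
# `Γ_{P,2}(G) = G` at `p = 3` for the Monster (helper79, for S1809)

The Monster is generated by fourteen involutions satisfying the Coxeter relations of `Y₅₅₃`.
-/

set_option autoImplicit false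

namespace Cfsg.Agent.GammaTwo.Spor

open Cfsg Cfsg.Agent.Bimonster

/-- adjacency in `Y₅₅₃` -/
def adjY (i j : Fin 14) : Bool := adjB i j

def uY : Fin 3 → Fin 14 := ![4, 9, 12]
def vY : Fin 3 → Fin 14 := ![5, 10, 13]
def lY : List (Fin 14) := [0, 1, 2, 3, 4, 5, 6, 7, 8, 9, 10, 11, 12, 13]

theorem goodY : Good adjY lY uY vY where
  symm := by decide +kernel
  tri := by decide +kernel
  conn := by decide +kernel
  edge := by decide +kernel
  uu := by decide +kernel
  uv := by decide +kernel
  vv := by decide +kernel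
  all := by decide +kernel

/-- A finite nonabelian group generated by the nodes of `Y₅₅₃`. -/
theorem full_of_coxRel {G : Type*} [Group G] [Finite G] {t : ℕ → G} (h : CoxRel 14 t)
    (hgen : Subgroup.closure (nodes 14 t) = ⊤) (hna : ¬ ∀ a b : G, a * b = b * a) : Full 3 G := by
  have h1 : CoxFam adjY (fun i : Fin 14 => t i) :=
    { sq := fun i => h.sq i i.2
      cm := fun i j hij => h.cm i i.2 j j.2 hij
      br := fun i j hij => h.br i i.2 j j.2 hij }
  refine h1.full goodY ?_ hna
  rw [eq_top_iff, ← hgen, Subgroup.closure_le]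
  rintro _ ⟨i, hi, rfl⟩
  exact Subgroup.subset_closure ⟨⟨i, hi⟩, rfl⟩

end Cfsg.Agent.GammaTwo.Spor

end

-- merged: Cfsg.Agent.GammaTwo.SporRows
section

/-!
# Sporadic rows for S1809 (helper79): `Fi22`, `Fi23`, `Fi24'`, `B`, `M`, from the orders and the simplicity
-/

set_option autoImplicit false

namespace Cfsg.Agent.GammaTwo.Spor

open Cfsg Cfsg.Agent.Bimonster

universe u

theorem fact3 : Fact (Nat.Prime 3) := ⟨Nat.prime_three⟩

theorem not_comm {G : Type*} [Group G] (hs : IsSimpleGroup G) (hc : ¬ (Nat.card G).Prime) :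
    ¬ ∀ a b : G, a * b = b * a := by
  intro h
  apply hc
  let _ : CommGroup G := { (inferInstance : Group G) with mul_comm := h }
  exact IsSimpleGroup.prime_card

theorem finite_of_card {G : Type*} {n : ℕ} (h : Nat.card G = n) (hn : n ≠ 0) : Finite G :=
  Nat.finite_of_card_ne_zero (by rw [h]; exact hn)

theorem noThree_of {X : Type} [Group X] (h : Full 3 X) :
    NoThree.{u} (fun G _ => Nonempty (G ≃* X)) := by
  intro G _ _ hG
  obtain ⟨e⟩ := hG
  have := fact3
  exact h.congr e.symm

theorem fi22 (h : IsFi22 Spor.Fi22) : Full 3 Spor.Fi22 := by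
  have := finite_of_card h.2 (by norm_num)
  exact fullFi22 (not_comm h.1 (by rw [h.2]; norm_num))

theorem fi23 (h : IsFi23 Spor.Fi23) : Full 3 Spor.Fi23 := by
  have := finite_of_card h.2 (by norm_num)
  exact fullFi23 (not_comm h.1 (by rw [h.2]; norm_num))

theorem ba (h : IsB Spor.BabyMonster) : Full 3 Spor.BabyMonster := by
  have := finite_of_card h.2 (by norm_num)
  exact fullB (not_comm h.1 (by rw [h.2]; norm_num))

theorem fi24 (h : IsFi24' Spor.Fi24') (hi : (commutator Spor.Fi24).index = 2) : Full 3 Spor.Fi24' := by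
  have := fact3
  have h1 := finite_of_card h.2 (by norm_num)
  have h2 : Finite Spor.Fi24 := by
    have h3 := (commutator Spor.Fi24).card_mul_index
    refine Nat.finite_of_card_ne_zero ?_
    rw [← h3, hi]
    change Nat.card Spor.Fi24' * 2 ≠ 0
    rw [h.2]; norm_num
  have hna : ¬ ∀ a b : Spor.Fi24, a * b = b * a := by
    intro h4
    refine not_comm h.1 (by rw [h.2]; norm_num) ?_
    intro a b
    exact Subtype.ext (h4 a b)
  have h5 := fullFi24 hna
  have hnt : Nontrivial Spor.Fi24 := by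
    have := h.1.1
    exact Function.Injective.nontrivial (Subtype.val_injective (p := fun x => x ∈ commutator Spor.Fi24))
  refine h5.normal (N := commutator Spor.Fi24) (by rw [hi]; norm_num) ?_
  obtain ⟨P⟩ : Nonempty (Sylow 3 Spor.Fi24) := inferInstance
  obtain ⟨E, hEP, hc, hp, hcard⟩ := h5.rk_sylow hnt P
  refine rk_iff.2 ⟨E, ?_, hc, hp, hcard⟩
  intro x hx
  have h6 := hp x hx
  have h7 : (QuotientGroup.mk' (commutator Spor.Fi24) x) ^ 2 = 1 := by
    have h8 := pow_card_eq_one' (x := QuotientGroup.mk' (commutator Spor.Fi24) x)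
    rwa [← Subgroup.index_eq_card, hi] at h8
  have h9 : (QuotientGroup.mk' (commutator Spor.Fi24) x) ^ 3 = 1 := by
    rw [← map_pow, h6, map_one]
  have h10 : QuotientGroup.mk' (commutator Spor.Fi24) x = 1 := by
    rw [pow_succ, h7, one_mul] at h9
    exact h9
  exact (QuotientGroup.eq_one_iff x).1 h10

theorem mo (h : IsM Spor.Monster) (e : Nonempty (Spor.Monster ≃* PM)) : Full 3 Spor.Monster := by
  have := fact3
  have h1 := finite_of_card h.2 (by norm_num)
  obtain ⟨e⟩ := e
  have h2 : Finite PM := Finite.of_equiv _ e.toEquiv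
  have h3 : Full 3 PM := by
    refine full_of_coxRel xM_prel.cox xM_gen ?_
    intro h4
    refine not_comm h.1 (by rw [h.2]; norm_num) ?_
    intro a b
    exact e.injective (by rw [map_mul, map_mul, h4])
  exact h3.congr e.symm

/-! ### The rows -/

theorem n_fi22 (h : IsFi22 Spor.Fi22) : NoThree.{u} (fun X _ => Spor.IsoFi22 X) := noThree_of (fi22 h)
theorem n_fi23 (h : IsFi23 Spor.Fi23) : NoThree.{u} (fun X _ => Spor.IsoFi23 X) := noThree_of (fi23 h)
theorem n_fi24 (h : IsFi24' Spor.Fi24') (hi : (commutator Spor.Fi24).index = 2) :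
    NoThree.{u} (fun X _ => Spor.IsoFi24' X) := noThree_of (fi24 h hi)
theorem n_ba (h : IsB Spor.BabyMonster) : NoThree.{u} (fun X _ => Spor.IsoB X) := noThree_of (ba h)
theorem n_m (h : IsM Spor.Monster) (e : Nonempty (Spor.Monster ≃* PM)) :
    NoThree.{u} (fun X _ => Spor.IsoM X) := noThree_of (mo h e)

end Cfsg.Agent.GammaTwo.Spor

end

-- merged: Cfsg.Agent.GammaTwo.SporChain
section

/-!
# `Γ_{P,2}(G)` and pairs of commuting elements of order `p` (helper79, for S1809)

`core_norm`: the normalizer of every `p`-subgroup of rank at least 2 of `Γ_{P,2}(G)` lies in `Γ_{P,2}(G)`.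
-/

set_option autoImplicit false

namespace Cfsg.Agent.GammaTwo.Spor

open Cfsg

variable {p : ℕ} {G : Type*} [Group G]

theorem rank_mono {A B : Subgroup G} {k : ℕ} (h : A ≤ B) (hA : ¬ PRankLE p k ↥A) : ¬ PRankLE p k ↥B := by
  intro hB
  apply hA
  intro C hC hCp
  have h1 := hB (C.map (Subgroup.inclusion h)) ?_ ?_
  · rwa [← Nat.card_congr (C.equivMapOfInjective _ (Subgroup.inclusion_injective h)).toEquiv] at h1
  · refine ⟨⟨?_⟩⟩
    rintro ⟨_, a, ha, rfl⟩ ⟨_, b, hb, rfl⟩
    apply Subtype.ext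
    show Subgroup.inclusion h a * Subgroup.inclusion h b = Subgroup.inclusion h b * Subgroup.inclusion h a
    have h2 : a * b = b * a := congrArg Subtype.val (hC.is_comm.comm ⟨a, ha⟩ ⟨b, hb⟩)
    rw [← map_mul, ← map_mul, h2]
  · rintro _ ⟨a, ha, rfl⟩
    rw [← map_pow, hCp a ha, map_one]

/-- The normalizer of a `p`-subgroup of rank at least 2 of `Γ_{P,2}(G)` lies in `Γ_{P,2}(G)`. -/
theorem core_norm [Finite G] [Fact p.Prime] {P : Sylow p G} {Q : Subgroup G} (hQp : IsPGroup p ↥Q)
    (hQ : Q ≤ kGeneratedCore p 2 (P : Subgroup G)) (hQ2 : ¬ PRankLE p 1 ↥Q) :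
    Subgroup.normalizer (Q : Set G) ≤ kGeneratedCore p 2 (P : Subgroup G) := by
  set M := kGeneratedCore p 2 (P : Subgroup G) with hM
  -- the rank of `P`
  obtain ⟨R, hR⟩ := hQp.exists_le_sylow
  obtain ⟨g, hg⟩ := MulAction.exists_smul_eq G R P
  have hP2 : ¬ PRankLE p 1 ↥(P : Subgroup G) := by
    have h1 := rank_mono hR hQ2
    have h2 := rank_map (MulAut.conj g).toMonoidHom (MulAut.conj g).injective h1
    rw [← hg, Sylow.coe_subgroup_smul]
    exact h2
  have hPM : (P : Subgroup G) ≤ M := fun x hx => mem_core le_rfl hP2 (Subgroup.le_normalizer hx)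
  -- conjugation in `M`
  have hQM : IsPGroup p ↥(Q.subgroupOf M) := hQp.comap_of_injective _ M.subtype_injective
  have hPp : IsPGroup p ↥((P : Subgroup G).subgroupOf M) := P.2.comap_of_injective _ M.subtype_injective
  obtain ⟨S, hS⟩ := hPp.exists_le_sylow
  obtain ⟨T, hT⟩ := hQM.exists_le_sylow
  obtain ⟨m, hm⟩ := MulAction.exists_smul_eq ↥M T S
  have hSP : ∀ x : ↥M, x ∈ (S : Subgroup ↥M) → (x : G) ∈ (P : Subgroup G) := by
    intro x hx
    have h1 : IsPGroup p ↥((S : Subgroup ↥M).map M.subtype) := S.2.map _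
    have h2 : (P : Subgroup G) ≤ (S : Subgroup ↥M).map M.subtype := by
      intro y hy
      exact ⟨⟨y, hPM hy⟩, hS hy, rfl⟩
    have h3 := P.3 h1 h2
    rw [← h3]
    exact ⟨x, hx, rfl⟩
  have hQ' : Q.map (MulAut.conj (m : G)).toMonoidHom ≤ P := by
    rintro _ ⟨q, hq, rfl⟩
    have h1 : m * ⟨q, hQ hq⟩ * m⁻¹ ∈ (S : Subgroup ↥M) := by
      rw [← hm, Sylow.coe_subgroup_smul]
      have h7 : (⟨q, hQ hq⟩ : ↥M) ∈ (T : Subgroup ↥M) := hT hq
      exact Subgroup.smul_mem_pointwise_smul _ (MulAut.conj m) _ h7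
    exact hSP _ h1
  intro x hx
  have h1 := normalizer_map (MulAut.conj (m : G)) Q hx
  have h2 := mem_core hQ' (rank_map _ (MulAut.conj (m : G)).injective hQ2) h1
  have h3 : (m : G)⁻¹ * (MulAut.conj (m : G) x) * m = x := by
    show (m : G)⁻¹ * ((m : G) * x * (m : G)⁻¹) * m = x
    group
  rw [← h3]
  exact mul_mem (mul_mem (inv_mem m.2) h2) m.2

theorem isPGroup_closure {S : Set G} (hc : ∀ a ∈ S, ∀ b ∈ S, a * b = b * a) (hp : ∀ a ∈ S, a ^ p = 1) :
    IsPGroup p ↥(Subgroup.closure S) := by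
  have hc' := Subgroup.isMulCommutative_closure hc
  rintro ⟨x, hx⟩
  refine ⟨1, ?_⟩
  apply Subtype.ext
  show x ^ (p ^ 1) = 1
  rw [pow_one]
  induction hx using Subgroup.closure_induction with
  | mem z hz => exact hp z hz
  | one => exact one_pow p
  | mul a b ha hb h1 h2 =>
    have h3 : Commute a b := congrArg Subtype.val (hc'.is_comm.comm ⟨a, ha⟩ ⟨b, hb⟩)
    rw [h3.mul_pow, h1, h2, one_mul]
  | inv a _ h1 => rw [inv_pow, h1, inv_one]

/-- Two commuting elements of order 3 generating a group of order 9. -/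
structure Pr3 (a b : G) : Prop where
  a3 : a * a * a = 1
  b3 : b * b * b = 1
  comm : a * b = b * a
  a1 : a ≠ 1
  b1 : b ≠ 1
  n1 : b ≠ a
  n2 : b ≠ a * a

theorem Pr3.notMem {a b : G} (h : Pr3 a b) : b ∉ Subgroup.zpowers a := by
  rintro ⟨n, hn⟩
  have ha3 : a ^ (3 : ℤ) = 1 := by
    have h1 : a ^ (3 : ℤ) = a * a * a := by
      rw [show (3 : ℤ) = ((3 : ℕ) : ℤ) by norm_num, zpow_natCast, pow_succ, pow_succ, pow_one]
    rw [h1, h.a3]
  have h2 : a ^ n = a ^ (n % 3) := by
    conv_lhs => rw [← Int.emod_add_mul_ediv n 3]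
    rw [zpow_add, zpow_mul, ha3, one_zpow, mul_one]
  have h0 : 0 ≤ n % 3 := Int.emod_nonneg _ (by norm_num)
  have h3 : n % 3 < 3 := Int.emod_lt_of_pos _ (by norm_num)
  have h4 : n % 3 = 0 ∨ n % 3 = 1 ∨ n % 3 = 2 := by omega
  have hn' : a ^ (n % 3) = b := h2.symm.trans hn
  rcases h4 with h4 | h4 | h4
  · rw [h4, zpow_zero] at hn'
    exact h.b1 hn'.symm
  · rw [h4, zpow_one] at hn'
    exact h.n1 hn'.symm
  · rw [h4, show (2 : ℤ) = 1 + 1 by norm_num, zpow_add, zpow_one] at hn'
    exact h.n2 hn'.symm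

theorem Pr3.rank [Finite G] {a b : G} (h : Pr3 a b) : ¬ PRankLE 3 1 ↥(Subgroup.closure {a, b}) := by
  have : Fact (Nat.Prime 3) := ⟨Nat.prime_three⟩
  exact rank_two (x := a) (y := b) (Subgroup.subset_closure (Set.mem_insert _ _))
    (Subgroup.subset_closure (Set.mem_insert_of_mem _ rfl)) (by rw [pow_succ, pow_succ, pow_one]; exact h.a3)
    (by rw [pow_succ, pow_succ, pow_one]; exact h.b3) h.a1 h.comm h.notMem

theorem Pr3.isPGroup {a b : G} (h : Pr3 a b) : IsPGroup 3 ↥(Subgroup.closure {a, b}) := by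
  refine isPGroup_closure ?_ ?_
  · rintro u (rfl | rfl) v (rfl | rfl)
    · rfl
    · exact h.comm
    · exact h.comm.symm
    · rfl
  · rintro u (rfl | rfl)
    · rw [pow_succ, pow_succ, pow_one]; exact h.a3
    · rw [pow_succ, pow_succ, pow_one]; exact h.b3

/-- An element commuting with a pair in `Γ_{P,2}(G)` lies in `Γ_{P,2}(G)`. -/
theorem Pr3.mem [Finite G] {P : Sylow 3 G} {a b : G} (h : Pr3 a b) (ha : a ∈ kGeneratedCore 3 2 (P : Subgroup G))
    (hb : b ∈ kGeneratedCore 3 2 (P : Subgroup G)) {g : G} (h1 : g * a = a * g) (h2 : g * b = b * g) :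
    g ∈ kGeneratedCore 3 2 (P : Subgroup G) := by
  have : Fact (Nat.Prime 3) := ⟨Nat.prime_three⟩
  refine core_norm h.isPGroup ?_ h.rank ?_
  · rw [Subgroup.closure_le]
    rintro u (rfl | rfl)
    · exact ha
    · exact hb
  · refine mem_normalizer_closure ?_ ?_
    · rintro u (rfl | rfl)
      · rw [h1, mul_inv_cancel_right]; exact Subgroup.subset_closure (Set.mem_insert _ _)
      · rw [h2, mul_inv_cancel_right]; exact Subgroup.subset_closure (Set.mem_insert_of_mem _ rfl)
    · rintro u (rfl | rfl)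
      · rw [mul_assoc, ← h1, inv_mul_cancel_left]; exact Subgroup.subset_closure (Set.mem_insert _ _)
      · rw [mul_assoc, ← h2, inv_mul_cancel_left]; exact Subgroup.subset_closure (Set.mem_insert_of_mem _ rfl)

/-- The start: a Sylow subgroup containing three commuting elements of order 3. -/
theorem exists_start [Finite G] {a b c : G} (hab : Pr3 a b) (hbc : b * c = c * b) (hac : a * c = c * a)
    (hc : c * c * c = 1) : ∃ P : Sylow 3 G, a ∈ kGeneratedCore 3 2 (P : Subgroup G) ∧
      b ∈ kGeneratedCore 3 2 (P : Subgroup G) ∧ c ∈ kGeneratedCore 3 2 (P : Subgroup G) := by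
  have : Fact (Nat.Prime 3) := ⟨Nat.prime_three⟩
  have h1 : IsPGroup 3 ↥(Subgroup.closure {a, b, c}) := by
    refine isPGroup_closure ?_ ?_
    · rintro u (rfl | rfl | rfl) v (rfl | rfl | rfl)
      · rfl
      · exact hab.comm
      · exact hac
      · exact hab.comm.symm
      · rfl
      · exact hbc
      · exact hac.symm
      · exact hbc.symm
      · rfl
    · rintro u (rfl | rfl | rfl)
      · rw [pow_succ, pow_succ, pow_one]; exact hab.a3
      · rw [pow_succ, pow_succ, pow_one]; exact hab.b3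
      · rw [pow_succ, pow_succ, pow_one]; exact hc
  obtain ⟨P, hP⟩ := h1.exists_le_sylow
  have h2 : Subgroup.closure {a, b} ≤ Subgroup.closure {a, b, c} := by
    refine Subgroup.closure_mono ?_
    rintro u (rfl | rfl)
    · exact Set.mem_insert _ _
    · exact Set.mem_insert_of_mem _ (Set.mem_insert _ _)
  have h3 : ¬ PRankLE 3 1 ↥(P : Subgroup G) := rank_mono (h2.trans hP) hab.rank
  have h4 : ∀ u ∈ ({a, b, c} : Set G), u ∈ kGeneratedCore 3 2 (P : Subgroup G) := fun u hu =>
    mem_core le_rfl h3 (Subgroup.le_normalizer (hP (Subgroup.subset_closure hu)))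
  exact ⟨P, h4 a (Set.mem_insert _ _), h4 b (Set.mem_insert_of_mem _ (Set.mem_insert _ _)),
    h4 c (Set.mem_insert_of_mem _ (Set.mem_insert_of_mem _ rfl))⟩

end Cfsg.Agent.GammaTwo.Spor

end

-- merged: Cfsg.Agent.GammaTwo.SporCo1
section

/-!
# `Γ_{P,2}(G) = G` at `p = 3` for `Co1` (helper79, for S1809)

The ten generators `s t x y w d e f g h` of `CoOneType.Model`; `n = (y x) h (y x)⁻¹`.
The elements `w d`, `f g`, `x` of order 3 commute; `n` commutes with `w d` and `x`; `y` and `h` are words in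
`f g s t x n`; `e` commutes with `x` and `g n`.
-/

set_option autoImplicit false
set_option maxRecDepth 100000

namespace Cfsg.Agent.GammaTwo.Spor

open Cfsg Cfsg.Agent.CoOneType Cfsg.Agent.CoOneType.Model Cfsg.Agent.CoOneType.CoEval

namespace CoOne

/-- the element `(y x) h (y x)⁻¹` -/
def n : Cfsg.Spor.Co1 := y * x * Model.h * x⁻¹ * y⁻¹

theorem val_n : val [4, 2, 11, 3, 5] = n := by
  simp [val, e, n, x, y, Model.h, mul_assoc]

theorem val_append (u v : List ℕ) : val (u ++ v) = val u * val v := by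
  unfold val
  rw [List.map_append, List.prod_append]

theorem val_s : val [0] = s := by simp [val, s]
theorem val_t : val [1] = t := by simp [val, t]
theorem val_x : val [2] = x := by simp [val, x]
theorem val_y : val [4] = y := by simp [val, y]
theorem val_w : val [6] = w := by simp [val, w]
theorem val_d : val [7] = d := by simp [val, d]
theorem val_f : val [9] = f := by simp [val, f]
theorem val_g : val [10] = g := by simp [val, g]
theorem val_h : val [11] = Model.h := by simp [val, Model.h]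

theorem val_ne_one {w : List ℕ} (h : neB M w = true) : val w ≠ 1 := ne_one_of_neB hM h

theorem val_wd : val [6, 7] = w * d := by rw [← val_w, ← val_d, ← val_append]; rfl
theorem val_fg : val [9, 10] = f * g := by rw [← val_f, ← val_g, ← val_append]; rfl
theorem val_gn : val [10, 4, 2, 11, 3, 5] = g * n := by rw [← val_g, ← val_n, ← val_append]; rfl

theorem val_one : val [] = 1 := rfl

/-- two words with different values -/
theorem ne_of {u v : List ℕ} (v' : List ℕ) (h1 : sameB M (v ++ v') [] = true) (h2 : neB M (u ++ v') = true) :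
    val u ≠ val v := by
  intro h
  apply val_ne_one h2
  rw [val_append, h, ← val_append, rel h1, val_one]

theorem mk {u v : List ℕ} (u' u2 : List ℕ) (h1 : sameB M (u ++ u ++ u) [] = true)
    (h2 : sameB M (v ++ v ++ v) [] = true) (h3 : sameB M (u ++ v) (v ++ u) = true) (h4 : neB M u = true)
    (h5 : neB M v = true) (h6 : sameB M (u ++ u') [] = true) (h7 : neB M (v ++ u') = true)
    (h8 : sameB M (u ++ u ++ u2) [] = true) (h9 : neB M (v ++ u2) = true) : Pr3 (val u) (val v) where
  a3 := by rw [← val_append, ← val_append, rel h1, val_one]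
  b3 := by rw [← val_append, ← val_append, rel h2, val_one]
  comm := by rw [← val_append, ← val_append, rel h3]
  a1 := val_ne_one h4
  b1 := val_ne_one h5
  n1 := ne_of u' h6 h7
  n2 := by rw [← val_append]; exact ne_of u2 h8 h9

theorem pr_wd_fg : Pr3 (w * d) (f * g) := by
  have h := mk (u := [6, 7]) (v := [9, 10]) [7, 6] [6, 7] (by (delta Cfsg.Agent.CoOneType.CoEval.sameB; rewrite [Cfsg.Agent.CoOneType.CoW.fold_eq]; decide +kernel)) (by (delta Cfsg.Agent.CoOneType.CoEval.sameB; rewrite [Cfsg.Agent.CoOneType.CoW.fold_eq]; decide +kernel)) (by (delta Cfsg.Agent.CoOneType.CoEval.sameB; rewrite [Cfsg.Agent.CoOneType.CoW.fold_eq]; decide +kernel))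
    (by (delta Cfsg.Agent.CoOneType.CoEval.neB; rewrite [Cfsg.Agent.CoOneType.CoW.fold_eq]; decide +kernel)) (by (delta Cfsg.Agent.CoOneType.CoEval.neB; rewrite [Cfsg.Agent.CoOneType.CoW.fold_eq]; decide +kernel)) (by (delta Cfsg.Agent.CoOneType.CoEval.sameB; rewrite [Cfsg.Agent.CoOneType.CoW.fold_eq]; decide +kernel)) (by (delta Cfsg.Agent.CoOneType.CoEval.neB; rewrite [Cfsg.Agent.CoOneType.CoW.fold_eq]; decide +kernel)) (by (delta Cfsg.Agent.CoOneType.CoEval.sameB; rewrite [Cfsg.Agent.CoOneType.CoW.fold_eq]; decide +kernel))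
    (by (delta Cfsg.Agent.CoOneType.CoEval.neB; rewrite [Cfsg.Agent.CoOneType.CoW.fold_eq]; decide +kernel))
  rwa [val_wd, val_fg] at h

theorem pr_wd_x : Pr3 (w * d) x := by
  have h := mk (u := [6, 7]) (v := [2]) [7, 6] [6, 7] (by (delta Cfsg.Agent.CoOneType.CoEval.sameB; rewrite [Cfsg.Agent.CoOneType.CoW.fold_eq]; decide +kernel)) (by (delta Cfsg.Agent.CoOneType.CoEval.sameB; rewrite [Cfsg.Agent.CoOneType.CoW.fold_eq]; decide +kernel)) (by (delta Cfsg.Agent.CoOneType.CoEval.sameB; rewrite [Cfsg.Agent.CoOneType.CoW.fold_eq]; decide +kernel))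
    (by (delta Cfsg.Agent.CoOneType.CoEval.neB; rewrite [Cfsg.Agent.CoOneType.CoW.fold_eq]; decide +kernel)) (by (delta Cfsg.Agent.CoOneType.CoEval.neB; rewrite [Cfsg.Agent.CoOneType.CoW.fold_eq]; decide +kernel)) (by (delta Cfsg.Agent.CoOneType.CoEval.sameB; rewrite [Cfsg.Agent.CoOneType.CoW.fold_eq]; decide +kernel)) (by (delta Cfsg.Agent.CoOneType.CoEval.neB; rewrite [Cfsg.Agent.CoOneType.CoW.fold_eq]; decide +kernel)) (by (delta Cfsg.Agent.CoOneType.CoEval.sameB; rewrite [Cfsg.Agent.CoOneType.CoW.fold_eq]; decide +kernel))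
    (by (delta Cfsg.Agent.CoOneType.CoEval.neB; rewrite [Cfsg.Agent.CoOneType.CoW.fold_eq]; decide +kernel))
  rwa [val_wd, val_x] at h

theorem pr_fg_x : Pr3 (f * g) x := by
  have h := mk (u := [9, 10]) (v := [2]) [10, 9] [9, 10] (by (delta Cfsg.Agent.CoOneType.CoEval.sameB; rewrite [Cfsg.Agent.CoOneType.CoW.fold_eq]; decide +kernel)) (by (delta Cfsg.Agent.CoOneType.CoEval.sameB; rewrite [Cfsg.Agent.CoOneType.CoW.fold_eq]; decide +kernel)) (by (delta Cfsg.Agent.CoOneType.CoEval.sameB; rewrite [Cfsg.Agent.CoOneType.CoW.fold_eq]; decide +kernel))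
    (by (delta Cfsg.Agent.CoOneType.CoEval.neB; rewrite [Cfsg.Agent.CoOneType.CoW.fold_eq]; decide +kernel)) (by (delta Cfsg.Agent.CoOneType.CoEval.neB; rewrite [Cfsg.Agent.CoOneType.CoW.fold_eq]; decide +kernel)) (by (delta Cfsg.Agent.CoOneType.CoEval.sameB; rewrite [Cfsg.Agent.CoOneType.CoW.fold_eq]; decide +kernel)) (by (delta Cfsg.Agent.CoOneType.CoEval.neB; rewrite [Cfsg.Agent.CoOneType.CoW.fold_eq]; decide +kernel)) (by (delta Cfsg.Agent.CoOneType.CoEval.sameB; rewrite [Cfsg.Agent.CoOneType.CoW.fold_eq]; decide +kernel))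
    (by (delta Cfsg.Agent.CoOneType.CoEval.neB; rewrite [Cfsg.Agent.CoOneType.CoW.fold_eq]; decide +kernel))
  rwa [val_fg, val_x] at h

theorem pr_x_gn : Pr3 x (g * n) := by
  have h := mk (u := [2]) (v := [10, 4, 2, 11, 3, 5]) [3] [2] (by (delta Cfsg.Agent.CoOneType.CoEval.sameB; rewrite [Cfsg.Agent.CoOneType.CoW.fold_eq]; decide +kernel)) (by (delta Cfsg.Agent.CoOneType.CoEval.sameB; rewrite [Cfsg.Agent.CoOneType.CoW.fold_eq]; decide +kernel))
    (by (delta Cfsg.Agent.CoOneType.CoEval.sameB; rewrite [Cfsg.Agent.CoOneType.CoW.fold_eq]; decide +kernel)) (by (delta Cfsg.Agent.CoOneType.CoEval.neB; rewrite [Cfsg.Agent.CoOneType.CoW.fold_eq]; decide +kernel)) (by (delta Cfsg.Agent.CoOneType.CoEval.neB; rewrite [Cfsg.Agent.CoOneType.CoW.fold_eq]; decide +kernel)) (by (delta Cfsg.Agent.CoOneType.CoEval.sameB; rewrite [Cfsg.Agent.CoOneType.CoW.fold_eq]; decide +kernel)) (by (delta Cfsg.Agent.CoOneType.CoEval.neB; rewrite [Cfsg.Agent.CoOneType.CoW.fold_eq]; decide +kernel))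
    (by (delta Cfsg.Agent.CoOneType.CoEval.sameB; rewrite [Cfsg.Agent.CoOneType.CoW.fold_eq]; decide +kernel)) (by (delta Cfsg.Agent.CoOneType.CoEval.neB; rewrite [Cfsg.Agent.CoOneType.CoW.fold_eq]; decide +kernel))
  rwa [val_gn, val_x] at h

theorem n_comm_x : n * x = x * n := by
  have h := rel (u := [4, 2, 11, 3, 5, 2]) (v := [2, 4, 2, 11, 3, 5]) (by (delta Cfsg.Agent.CoOneType.CoEval.sameB; rewrite [Cfsg.Agent.CoOneType.CoW.fold_eq]; decide +kernel))
  rw [show ([4, 2, 11, 3, 5, 2] : List ℕ) = [4, 2, 11, 3, 5] ++ [2] from rfl,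
    show ([2, 4, 2, 11, 3, 5] : List ℕ) = [2] ++ [4, 2, 11, 3, 5] from rfl, val_append, val_append, val_n, val_x] at h
  exact h

theorem y_eq : y = g * s * t * n * t * n * g := by
  have h := rel (u := [4]) (v := [10] ++ [0] ++ [1] ++ [4, 2, 11, 3, 5] ++ [1] ++ [4, 2, 11, 3, 5] ++ [10])
    (by (delta Cfsg.Agent.CoOneType.CoEval.sameB; rewrite [Cfsg.Agent.CoOneType.CoW.fold_eq]; decide +kernel))
  simp only [val_append, val_n, val_y, val_g, val_s, val_t] at h
  exact h

theorem h_eq : Model.h = g * n * s * n * g * t * n * g * t * n * s * n * g := by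
  have h := rel (u := [11]) (v := [10] ++ [4, 2, 11, 3, 5] ++ [0] ++ [4, 2, 11, 3, 5] ++ [10] ++ [1] ++
    [4, 2, 11, 3, 5] ++ [10] ++ [1] ++ [4, 2, 11, 3, 5] ++ [0] ++ [4, 2, 11, 3, 5] ++ [10]) (by (delta Cfsg.Agent.CoOneType.CoEval.sameB; rewrite [Cfsg.Agent.CoOneType.CoW.fold_eq]; decide +kernel))
  simp only [val_append, val_n, val_h, val_g, val_s, val_t] at h
  exact h

theorem cc {G : Type*} [Group G] {g a b : G} (h1 : g * a = a * g) (h2 : g * b = b * g) :
    g * (a * b) = a * b * g := by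
  rw [← mul_assoc, h1, mul_assoc, h2, mul_assoc]

theorem inv_c {G : Type*} [Group G] {g a : G} (h : g * a = a * g) : g * a⁻¹ = a⁻¹ * g := by
  have : Commute g a := h
  exact this.inv_right

/-- an element commuting with `y`, `x`, `h` commutes with `n` -/
theorem comm_n {a : Cfsg.Spor.Co1} (hy : a * y = y * a) (hx : a * x = x * a) (hh : a * Model.h = Model.h * a) :
    a * n = n * a := cc (cc (cc (cc hy hx) hh) (inv_c hx)) (inv_c hy)

theorem full [Finite Cfsg.Spor.Co1] : Full 3 Cfsg.Spor.Co1 := by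
  have : Fact (Nat.Prime 3) := ⟨Nat.prime_three⟩
  have H := p957
  have sym : ∀ {a b : Cfsg.Spor.Co1}, Commute a b → b * a = a * b := fun h => h.eq.symm
  have wx : w * x = x * w := H.wx.eq
  have dx : d * x = x * d := H.dx.eq
  have fx : f * x = x * f := H.fx.eq
  have gx : g * x = x * g := H.gx.eq
  obtain ⟨P, ha, hb, hc⟩ := exists_start pr_wd_fg pr_fg_x.comm pr_wd_x.comm pr_wd_x.b3
  refine full_of_one (P' := P) ?_
  set K := kGeneratedCore 3 2 (P : Subgroup Cfsg.Spor.Co1) with hK
  have mw : w ∈ K := pr_fg_x.mem hb hc (cc H.wf.eq H.wg.eq) wx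
  have md : d ∈ K := pr_fg_x.mem hb hc (cc H.df.eq H.dg.eq) dx
  have mf : f ∈ K := pr_wd_x.mem ha hc (cc (sym H.wf) (sym H.df)) fx
  have mg : g ∈ K := pr_wd_x.mem ha hc (cc (sym H.wg) (sym H.dg)) gx
  have ms : s ∈ K := pr_wd_fg.mem ha hb (cc (sym H.ws) (sym H.ds)) (cc (sym H.fs) (sym H.gs))
  have mt : t ∈ K := pr_wd_fg.mem ha hb (cc (sym H.wt) (sym H.dt)) (cc (sym H.ft) (sym H.gt))
  have wn : w * n = n * w := comm_n H.wy.eq wx H.wh.eq
  have dn : d * n = n * d := comm_n H.dy.eq dx H.dh.eq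
  have mn : n ∈ K := pr_wd_x.mem ha hc (cc wn.symm dn.symm) n_comm_x
  have my : y ∈ K := by
    rw [y_eq]
    exact mul_mem (mul_mem (mul_mem (mul_mem (mul_mem (mul_mem mg ms) mt) mn) mt) mn) mg
  have mh : Model.h ∈ K := by
    rw [h_eq]
    exact mul_mem (mul_mem (mul_mem (mul_mem (mul_mem (mul_mem (mul_mem (mul_mem (mul_mem (mul_mem (mul_mem
      (mul_mem mg mn) ms) mn) mg) mt) mn) mg) mt) mn) ms) mn) mg
  have en : e' * n = n * e' := comm_n H.ey.eq H.ex.eq H.eh.eq
  have me : e' ∈ K := pr_x_gn.mem hc (mul_mem mg mn) H.ex.eq (cc H.eg.eq en)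
  rw [eq_top_iff, ← Gen.closure_eq_top, Subgroup.closure_le]
  rintro a (rfl | rfl | rfl | rfl | rfl | rfl | rfl | rfl | rfl | rfl)
  · exact ms
  · exact mt
  · exact hc
  · exact my
  · exact mw
  · exact md
  · exact me
  · exact mf
  · exact mg
  · exact mh

end CoOne

end Cfsg.Agent.GammaTwo.Spor

end

-- merged: Cfsg.Agent.GammaTwo.SporCo1Row
section

/-!
# Row `Co1` for S1809 (helper79)
-/

set_option autoImplicit false

namespace Cfsg.Agent.GammaTwo.Spor

open Cfsg

universe u

theorem n_co1 : NoThree.{u} (fun X _ => Cfsg.Spor.IsoCo1 X) := by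
  intro G _ _ hG
  obtain ⟨e⟩ := hG
  have : Fact (Nat.Prime 3) := ⟨Nat.prime_three⟩
  have : Finite Cfsg.Spor.Co1 := Finite.of_equiv G e.toEquiv
  exact CoOne.full.congr e.symm

end Cfsg.Agent.GammaTwo.Spor

end

-- merged: Cfsg.Agent.GammaTwo.SporDone
section

/-!
# Sporadic rows for S1809 (helper79): `Co1`, `Fi22`, `Fi23`, `Fi24'`, `B`, `M`
-/

set_option autoImplicit false

namespace Cfsg.Agent.GammaTwo.SporDone

open Cfsg Cfsg.Agent.Bimonster

universe u

theorem fi22 : NoThree.{u} (fun X _ => Cfsg.Spor.IsoFi22 X) := Spor.n_fi22 Cfsg.Agent.S1696.result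
theorem fi23 : NoThree.{u} (fun X _ => Cfsg.Spor.IsoFi23 X) := Spor.n_fi23 Cfsg.Agent.S1697.result
theorem fi24 : NoThree.{u} (fun X _ => Cfsg.Spor.IsoFi24' X) :=
  Spor.n_fi24 Cfsg.Agent.S1698.result Cfsg.Agent.S1691.result
theorem ba : NoThree.{u} (fun X _ => Cfsg.Spor.IsoB X) := Spor.n_ba Cfsg.Agent.S1704.result
theorem m : NoThree.{u} (fun X _ => Cfsg.Spor.IsoM X) :=
  Spor.n_m Cfsg.Agent.MonsterP.Equiv.isM Cfsg.Agent.MonsterP.Equiv.equivM

theorem co1 : NoThree.{u} (fun X _ => Cfsg.Spor.IsoCo1 X) := Spor.n_co1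

end Cfsg.Agent.GammaTwo.SporDone

end

private theorem dce_f092eba657e8 : _root_.True := by
  try have : _root_.True := by simp only [_root_.Cfsg.Agent.GammaTwo.Spor.CoOne.n.eq_1]
  exact _root_.True.intro
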